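import Groth.Agent.L28.EtCartan.Criterion
import Groth.Prelude.Def_EtGm
import Mathlib.RingTheory.Flat.FaithfullyFlat.Algebra
import Mathlib.AlgebraicGeometry.Morphisms.Affine

/-!
The additive group is Čech acyclic for surjective maps of affine étale schemes.
-/

set_option autoImplicit false
set_option linter.style.haveILetI false
set_option linter.unusedSectionVars false
set_option backward.isDefEq.respectTransparency.types false

universe u

open CategoryTheory CategoryTheory.Limits AlgebraicGeometry Opposite TensorProduct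
open Groth.L10 (Nerve.N Nerve.δ Nerve.pr Nerve.bs Nerve.pr_w Nerve.δ_pr Nerve.δ_bs)

namespace Groth.L28.EtCartan

section Degeneracy

variable {C : Type*} [Category C] [HasFiniteWidePullbacks C] {V U : C} (p : V ⟶ U)

/-- doubling the last vertex -/
noncomputable def dup (n : ℕ) : Nerve.N p n ⟶ Nerve.N p (n + 1) :=
  WidePullback.lift (Nerve.bs p n) (Fin.lastCases (Nerve.pr p (Fin.last n)) fun k => Nerve.pr p k) fun k => by
    induction k using Fin.lastCases with
    | last => rw [Fin.lastCases_last]; exact Nerve.pr_w p _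
    | cast k => rw [Fin.lastCases_castSucc]; exact Nerve.pr_w p _

theorem dup_pr (n : ℕ) (k : Fin (n + 2)) :
    dup p n ≫ Nerve.pr p k = Fin.lastCases (motive := fun _ => Nerve.N p n ⟶ V) (Nerve.pr p (Fin.last n))
      (fun k => Nerve.pr p k) k :=
  WidePullback.lift_π _ _ _ _ _

theorem dup_δ_last (n : ℕ) : dup p n ≫ Nerve.δ p (Fin.last n).castSucc = 𝟙 _ := by
  refine Groth.L10.Nerve.hom_ext p fun k => ?_
  rw [Category.assoc, Nerve.δ_pr, dup_pr, Category.id_comp]
  induction k using Fin.lastCases with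
  | last =>
    rw [Fin.succAbove_of_le_castSucc _ _ le_rfl, Fin.succ_last, Fin.lastCases_last]
  | cast k =>
    rw [Fin.succAbove_of_castSucc_lt _ _ (by simp [Fin.lt_def]), Fin.lastCases_castSucc]

theorem dup_δ (n : ℕ) (j : Fin (n + 1)) :
    dup p (n + 1) ≫ Nerve.δ p j.castSucc.castSucc = Nerve.δ p j.castSucc ≫ dup p n := by
  refine Groth.L10.Nerve.hom_ext p fun k => ?_
  rw [Category.assoc, Category.assoc, Nerve.δ_pr, dup_pr, dup_pr]
  induction k using Fin.lastCases with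
  | last =>
    rw [Fin.lastCases_last, Nerve.δ_pr,
      Fin.succAbove_of_le_castSucc _ _ (by simp [Fin.le_def]), Fin.succ_last, Fin.lastCases_last,
      Fin.succAbove_of_le_castSucc _ _ (by simp [Fin.le_def]; omega), Fin.succ_last]
  | cast k =>
    rw [Fin.lastCases_castSucc, Nerve.δ_pr]
    rcases lt_or_ge k.castSucc j.castSucc with h | h
    · rw [Fin.succAbove_of_castSucc_lt _ _ h, Fin.succAbove_of_castSucc_lt _ _ (Fin.castSucc_lt_castSucc_iff.2 h),
        Fin.lastCases_castSucc]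
    · rw [Fin.succAbove_of_le_castSucc _ _ h, Fin.succAbove_of_le_castSucc _ _ (Fin.castSucc_le_castSucc_iff.2 h),
        Fin.succ_castSucc, Fin.lastCases_castSucc]

end Degeneracy

variable {X : Scheme.{u}} {V U : X.Etale} (p : V ⟶ U)

/-- pullback of functions along a face map -/
noncomputable abbrev fn {A B : X.Etale} (f : A ⟶ B) : Γ(B.left, ⊤) →+* Γ(A.left, ⊤) := f.left.appTop.hom

theorem fn_fn {A B D : X.Etale} (f : A ⟶ B) (g : B ⟶ D) (x : Γ(D.left, ⊤)) : fn f (fn g x) = fn (f ≫ g) x := by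
  show _ = (f.left ≫ g.left).appTop.hom x
  rw [Scheme.Hom.comp_appTop]
  rfl

theorem fn_congr {A B : X.Etale} {f g : A ⟶ B} (h : f = g) (x : Γ(B.left, ⊤)) : fn f x = fn g x := by rw [h]

/-- the differential on functions -/
noncomputable def dR (n : ℕ) : Γ((Nerve.N p n).left, ⊤) →+ Γ((Nerve.N p (n + 1)).left, ⊤) :=
  ∑ j : Fin (n + 2), (-1 : ℤ) ^ (j : ℕ) • (fn (Nerve.δ p j)).toAddMonoidHom

theorem dR_apply (n : ℕ) (x : Γ((Nerve.N p n).left, ⊤)) :
    dR p n x = ∑ j : Fin (n + 2), (-1 : ℤ) ^ (j : ℕ) • fn (Nerve.δ p j) x := by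
  simp [dR]

/-- the differential without the last face -/
noncomputable def dS (n : ℕ) : Γ((Nerve.N p (n + 1)).left, ⊤) →+ Γ((Nerve.N p (n + 2)).left, ⊤) :=
  ∑ j : Fin (n + 2), (-1 : ℤ) ^ (j : ℕ) • (fn (Nerve.δ p j.castSucc)).toAddMonoidHom

theorem dS_apply (n : ℕ) (x : Γ((Nerve.N p (n + 1)).left, ⊤)) :
    dS p n x = ∑ j : Fin (n + 2), (-1 : ℤ) ^ (j : ℕ) • fn (Nerve.δ p j.castSucc) x := by
  simp [dS]

theorem exact_dS (n : ℕ) (z : Γ((Nerve.N p (n + 2)).left, ⊤)) (hz : dS p (n + 1) z = 0) : ∃ y, dS p n y = z := by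
  have h := congrArg (fn (dup p (n + 2))) hz
  rw [dS_apply, map_sum, Fin.sum_univ_castSucc] at h
  simp only [map_zsmul, fn_fn, dup_δ, dup_δ_last, map_zero, Fin.val_castSucc, Fin.val_last] at h
  have hid : fn (𝟙 (Nerve.N p (n + 2))) z = z := by
    exact ConcreteCategory.congr_hom (Scheme.Hom.id_appTop (X := (Nerve.N p (n + 2)).left)) z
  simp only [← fn_fn] at h
  rw [hid, ← dS_apply] at h
  refine ⟨(-1 : ℤ) ^ (n + 1) • fn (dup p (n + 1)) z, ?_⟩
  rw [map_zsmul, eq_neg_of_add_eq_zero_left h, smul_neg, smul_smul, pow_succ, pow_succ, ← mul_assoc]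
  rcases neg_one_pow_eq_or ℤ n with e | e <;> simp [e, pow_succ]

/-- sections of the additive group are functions -/
noncomputable abbrev toFn (A : X.Etale) : (EtCoh.Ga X).obj.obj (op A) →+ Γ(A.left, ⊤) :=
  (AddEquiv.ulift : ULift.{u + 1} Γ(A.left, ⊤) ≃+ Γ(A.left, ⊤)).toAddMonoidHom

theorem toFn_d (m : ℕ) (w : (EtCoh.Ga X).obj.obj (op (Nerve.N p m))) :
    toFn _ (Groth.L28.ProEt.Cech.d p (EtCoh.Ga X).obj m w) = dR p m (toFn _ w) := by
  refine (congrArg (toFn _) (Groth.L28.ProEt.Cech.d_apply p _ m w)).trans ?_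
  refine (map_sum (toFn (Nerve.N p (m + 1))) _ _).trans ?_
  rw [dR_apply]
  exact Finset.sum_congr rfl fun j _ => map_zsmul (toFn (Nerve.N p (m + 1))) _ _

theorem compat_δ {n : ℕ} (j : Fin (n + 2)) (x : Γ(U.left, ⊤)) :
    fn (Nerve.δ p j) (fn (Nerve.bs p n) x) = fn (Nerve.bs p (n + 1)) x := by
  rw [fn_fn, Nerve.δ_bs]

variable [IsAffine V.left] [IsAffine U.left] [Surjective p.left]

/-- functions on the last base change are a tensor product -/
theorem exists_theta (n : ℕ) :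
    letI := (fn (Nerve.bs p n)).toAlgebra
    letI := (fn p).toAlgebra
    ∃ θ : Γ((Nerve.N p n).left, ⊤) ⊗[Γ(U.left, ⊤)] Γ(V.left, ⊤) ≃+ Γ((Nerve.N p (n + 1)).left, ⊤),
      ∀ y b, θ (y ⊗ₜ b) = fn (Nerve.δ p (Fin.last (n + 1))) y * fn (Nerve.pr p (Fin.last (n + 1))) b := by
  letI := (fn (Nerve.bs p n)).toAlgebra
  letI := (fn p).toAlgebra
  haveI := (affine_and_surjective p n).1
  have h := isPushout_appTop_of_isPullback (isPullback_left (isPullback_last p n))
  let e := (CommRingCat.isPushout_tensorProduct Γ(U.left, ⊤) Γ((Nerve.N p n).left, ⊤) Γ(V.left, ⊤)).isoIsPushout _ _ h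
  refine ⟨e.commRingCatIsoToRingEquiv.toAddEquiv, fun y b => ?_⟩
  have e₁ := ConcreteCategory.congr_hom (IsPushout.inl_isoIsPushout_hom _ _
    (CommRingCat.isPushout_tensorProduct Γ(U.left, ⊤) Γ((Nerve.N p n).left, ⊤) Γ(V.left, ⊤)) h) y
  have e₂ := ConcreteCategory.congr_hom (IsPushout.inr_isoIsPushout_hom _ _
    (CommRingCat.isPushout_tensorProduct Γ(U.left, ⊤) Γ((Nerve.N p n).left, ⊤) Γ(V.left, ⊤)) h) b
  show e.hom.hom (y ⊗ₜ b) = _
  rw [show (y ⊗ₜ[Γ(U.left, ⊤)] b) = (y ⊗ₜ 1) * (1 ⊗ₜ b) by simp, map_mul]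
  exact congrArg₂ (· * ·) e₁ e₂

theorem faithfullyFlat : letI := (fn p).toAlgebra; Module.FaithfullyFlat Γ(U.left, ⊤) Γ(V.left, ⊤) := by
  letI := (fn p).toAlgebra
  haveI : AlgebraicGeometry.Etale p.left := by
    haveI : AlgebraicGeometry.Etale (p.left ≫ U.hom) := by rw [MorphismProperty.Over.w p]; exact V.prop
    haveI : AlgebraicGeometry.Etale U.hom := U.prop
    exact AlgebraicGeometry.Etale.of_comp p.left U.hom
  haveI : Module.Flat Γ(U.left, ⊤) Γ(V.left, ⊤) := p.left.flat_appTop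
  refine Module.FaithfullyFlat.of_comap_surjective fun q => ?_
  haveI : Surjective (Spec.map p.left.appTop) :=
    (MorphismProperty.arrow_mk_iso_iff @Surjective (arrowIsoSpecΓOfIsAffine p.left)).1 inferInstance
  exact (Spec.map p.left.appTop).surjective q

theorem exact_dR (n : ℕ) (x : Γ((Nerve.N p (n + 1)).left, ⊤)) (hx : dR p (n + 1) x = 0) : ∃ y, dR p n y = x := by
  letI alg : ∀ m, Algebra Γ(U.left, ⊤) Γ((Nerve.N p m).left, ⊤) := fun m => (fn (Nerve.bs p m)).toAlgebra
  letI := (fn p).toAlgebra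
  haveI := faithfullyFlat p
  have hdd : ∀ y, dR p (n + 1) (dR p n y) = 0 := fun y => by
    have := congrArg (toFn _) (EtCartan.d_d p (EtCoh.Ga X).obj n (ULift.up y))
    rw [toFn_d, toFn_d, map_zero] at this
    exact this
  have hsmul : ∀ (m : ℕ) (a : Γ(U.left, ⊤)) (w : Γ((Nerve.N p m).left, ⊤)), dR p m (a • w) = a • dR p m w := by
    intro m a w
    rw [dR_apply, dR_apply, Finset.smul_sum]
    refine Finset.sum_congr rfl fun j _ => ?_
    rw [smul_comm a]
    refine congrArg _ ?_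
    show fn (Nerve.δ p j) (fn (Nerve.bs p m) a * w) = fn (Nerve.bs p (m + 1)) a * _
    rw [map_mul, compat_δ]
  let D : ∀ m, Γ((Nerve.N p m).left, ⊤) →ₗ[Γ(U.left, ⊤)] Γ((Nerve.N p (m + 1)).left, ⊤) := fun m =>
    { toFun := dR p m, map_add' := map_add _, map_smul' := hsmul m }
  choose θ hθ using fun m => exists_theta p m
  have hcomp : ∀ m t, θ (m + 1) (LinearMap.rTensor Γ(V.left, ⊤) (D m) t) = dS p m (θ m t) := by
    intro m t
    induction t using TensorProduct.induction_on with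
    | zero => simp
    | tmul y b =>
      rw [LinearMap.rTensor_tmul, hθ, hθ]
      show fn _ (dR p m y) * _ = _
      rw [dR_apply, dS_apply, map_sum, Finset.sum_mul]
      refine Finset.sum_congr rfl fun j _ => ?_
      rw [map_zsmul, smul_mul_assoc, map_mul]
      refine congrArg _ (congrArg₂ (· * ·) ?_ ?_)
      · rw [fn_fn, fn_fn]
        refine fn_congr (Groth.L10.Nerve.hom_ext p fun k => ?_) y
        rw [Category.assoc, Category.assoc, Nerve.δ_pr, Nerve.δ_pr, Nerve.δ_pr, Nerve.δ_pr, Fin.succAbove_last,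
          Fin.succAbove_last, Fin.castSucc_succAbove_castSucc]
      · rw [fn_fn, Nerve.δ_pr, Fin.succAbove_of_le_castSucc _ _ (Fin.castSucc_le_castSucc_iff.2 (Fin.le_last j)),
          Fin.succ_last]
    | add a b ha hb => simp only [map_add, ha, hb]
  have hex : Function.Exact (LinearMap.rTensor Γ(V.left, ⊤) (D n)) (LinearMap.rTensor Γ(V.left, ⊤) (D (n + 1))) := by
    intro t
    constructor
    · intro ht
      obtain ⟨y, hy⟩ := exact_dS p n (θ (n + 1) t) (by rw [← hcomp, ht, map_zero])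
      obtain ⟨t', rfl⟩ := (θ n).surjective y
      exact ⟨t', (θ (n + 1)).injective ((hcomp n t').trans hy)⟩
    · rintro ⟨t', rfl⟩
      rw [← LinearMap.comp_apply, ← LinearMap.rTensor_comp,
        show D (n + 1) ∘ₗ D n = 0 from LinearMap.ext hdd, LinearMap.rTensor_zero, LinearMap.zero_apply]
  exact ((Module.FaithfullyFlat.rTensor_exact_iff_exact Γ(U.left, ⊤) Γ(V.left, ⊤) (D n) (D (n + 1))).1 hex x).1 hx

omit p in
theorem acyc_Ga : Acyc (EtCoh.Ga X) := by
  intro V U _ _ p _ n x hx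
  obtain ⟨y, hy⟩ := exact_dR p n (toFn _ x) (by rw [← toFn_d, hx, map_zero])
  exact ⟨ULift.up y, ULift.ext _ _ ((toFn_d p n (ULift.up y)).trans hy)⟩

end Groth.L28.EtCartan
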