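import Groth.Agent.L28.EtCartan.Amitsur
import Groth.Prelude.Def_W4c5etcohweilstudentAS
import Mathlib.FieldTheory.IsAlgClosed.AlgebraicClosure
import Mathlib.FieldTheory.Finite.Basic
import Mathlib.RingTheory.Etale.StandardEtale
import Mathlib.AlgebraicGeometry.Morphisms.Etale

/-!
The Artin–Schreier sequence on the small étale site.
-/

set_option autoImplicit false
set_option linter.style.haveILetI false
set_option linter.unusedSectionVars false
set_option backward.isDefEq.respectTransparency.types false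

universe u

open CategoryTheory CategoryTheory.Limits AlgebraicGeometry Opposite Polynomial
open W4c5etcohweilstudent (artinSchreierEndo natCast_eq_zero_etale asHom)

namespace Groth.L28.EtCartan

/-- Artin–Schreier equations have solutions étale locally -/
theorem exists_asRoot {U : Scheme.{u}} (p : ℕ) (hp : p.Prime) (h0 : (p : Γ(U, ⊤)) = 0) (a : Γ(U, ⊤)) (x : U) :
    ∃ (V : Scheme.{u}) (g : V ⟶ U) (_ : AlgebraicGeometry.Etale g) (v : V) (b : Γ(V, ⊤)),
      g.base v = x ∧ b ^ p - b = g.appTop a := by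
  obtain ⟨R, j, _, hx⟩ := U.exists_affine_mem_range_and_range_subset (U := ⊤) (x := x) trivial
  obtain ⟨⟨x₀, hx₀⟩, -⟩ := hx
  let e : Γ(U, ⊤) →+* R := (j.appTop ≫ (Scheme.ΓSpecIso R).hom).hom
  let a' : R := e a
  have hR : (p : R) = 0 := by rw [← map_natCast e, h0, map_zero]
  let P : StandardEtalePair R :=
    { f := Polynomial.X ^ p - (Polynomial.X + Polynomial.C a')
      monic_f := monic_X_pow_sub <| by
        refine lt_of_le_of_lt (degree_add_le _ _) (max_lt ?_ ?_)
        · exact lt_of_le_of_lt degree_X_le (by exact_mod_cast hp.one_lt)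
        · exact lt_of_le_of_lt degree_C_le (by exact_mod_cast hp.pos)
      g := 1
      cond := ⟨-1, 0, 0, by simp [derivative_X_pow, hR]⟩ }
  let φ : R ⟶ CommRingCat.of P.Ring := CommRingCat.ofHom (algebraMap R P.Ring)
  haveI : AlgebraicGeometry.Etale (Spec.map φ) :=
    HasRingHomProperty.Spec_iff.2 (RingHom.etale_algebraMap.2 inferInstance)
  let K := AlgebraicClosure (FractionRing (R ⧸ x₀.asIdeal))
  let alg : Algebra R K :=
    ((algebraMap (FractionRing (R ⧸ x₀.asIdeal)) K).comp
      ((algebraMap (R ⧸ x₀.asIdeal) (FractionRing (R ⧸ x₀.asIdeal))).comp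
        (Ideal.Quotient.mk x₀.asIdeal))).toAlgebra
  obtain ⟨z, hz⟩ := IsAlgClosed.exists_root (k := K) (P.f.map (algebraMap R K)) (by
    rw [P.monic_f.degree_map]
    intro h
    have h1 : P.f.natDegree = 0 := natDegree_eq_of_degree_eq_some h
    have h2 : P.f.coeff p = 1 := by simp [P, coeff_X, hp.pos.ne', Nat.ne_of_lt hp.one_lt, coeff_C]
    rw [coeff_eq_zero_of_natDegree_lt (by rw [h1]; exact hp.pos)] at h2
    exact (mul_one (1 : K)).symm.trans (by rw [← map_one (algebraMap R K), ← h2, map_zero, mul_zero]) |> one_ne_zero)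
  have hmap : P.HasMap z := ⟨by rwa [IsRoot.def, eval_map, ← aeval_def] at hz, by simp [P]⟩
  let ψ := P.lift z hmap
  let v : Spec (CommRingCat.of P.Ring) := ⟨RingHom.ker ψ.toRingHom, RingHom.ker_isPrime _⟩
  have hv : (Spec.map φ).base v = x₀ := by
    apply PrimeSpectrum.ext
    ext r
    change ψ (algebraMap R P.Ring r) = 0 ↔ _
    rw [AlgHom.commutes]
    change algebraMap (FractionRing (R ⧸ x₀.asIdeal)) K (algebraMap (R ⧸ x₀.asIdeal) _
      (Ideal.Quotient.mk x₀.asIdeal r)) = 0 ↔ _
    rw [map_eq_zero_iff _ (RingHom.injective _),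
      map_eq_zero_iff _ (IsFractionRing.injective (R ⧸ x₀.asIdeal) _), Ideal.Quotient.eq_zero_iff_mem]
  have hX : P.X ^ p - P.X = algebraMap R P.Ring a' := by
    have h : aeval P.X (Polynomial.X ^ p - (Polynomial.X + Polynomial.C a')) = 0 := P.hasMap_X.1
    rw [map_sub, map_add, map_pow, aeval_X, aeval_C, sub_eq_zero] at h
    rw [h, add_sub_cancel_left]
  refine ⟨Spec (CommRingCat.of P.Ring), Spec.map φ ≫ j, inferInstance, v,
    (Scheme.ΓSpecIso (CommRingCat.of P.Ring)).inv.hom P.X, ?_, ?_⟩
  · exact (Scheme.Hom.comp_apply _ _ _).trans ((congrArg _ hv).trans hx₀)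
  · have h1 : (Spec.map φ ≫ j).appTop a = (Spec.map φ).appTop ((Scheme.ΓSpecIso R).inv a') := by
      rw [Scheme.Hom.comp_appTop, CommRingCat.comp_apply]
      congr 1
      exact (Iso.hom_inv_id_apply (Scheme.ΓSpecIso R) _).symm
    rw [h1, ← CommRingCat.comp_apply, ← Scheme.ΓSpecIso_inv_naturality, CommRingCat.comp_apply]
    change _ = (Scheme.ΓSpecIso (CommRingCat.of P.Ring)).inv.hom (algebraMap R P.Ring a')
    rw [← hX, map_sub, map_pow]

variable {X : Scheme.{u}} (p : ℕ) (hp : p.Prime) (h0 : (p : Γ(X, ⊤)) = 0)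

theorem toFn_as (A : X.Etale) (y : (EtCoh.Ga X).obj.obj (op A)) :
    toFn A ((artinSchreierEndo X p hp h0).hom.app (op A) y) = toFn A y ^ p - toFn A y := rfl

theorem epi_artinSchreierEndo : Epi (artinSchreierEndo X p hp h0) := by
  refine (Sheaf.isLocallySurjective_iff_epi' AddCommGrpCat.{u + 1} _).mp ⟨fun {T} s => ?_⟩
  refine (Groth.L27.EtSite.mem_topology_iff _).2 fun x => ?_
  obtain ⟨V, g, hg, v, b, hv, hb⟩ := exists_asRoot p hp (natCast_eq_zero_etale p h0 T) (toFn T s) x
  haveI := hg
  haveI : AlgebraicGeometry.Etale T.hom := T.prop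
  let W : X.Etale := MorphismProperty.Over.mk ⊤ (g ≫ T.hom) (inferInstanceAs (AlgebraicGeometry.Etale (g ≫ T.hom)))
  let h : W ⟶ T := MorphismProperty.Over.homMk g rfl
  exact ⟨W, h, v, ⟨ULift.up b, ULift.ext _ _ hb⟩, hv⟩

/-- a natural number as a function -/
noncomputable def natFn [Fact p.Prime] (A : X.Etale) : ZMod p →+ Γ(A.left, ⊤) :=
  ZMod.lift p ⟨(Int.castAddHom Γ(A.left, ⊤)), by simpa using natCast_eq_zero_etale p h0 A⟩

theorem natFn_apply [Fact p.Prime] (A : X.Etale) (i : ZMod p) : natFn p h0 A i = ((i.val : ℕ) : Γ(A.left, ⊤)) := by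
  conv_lhs => rw [← ZMod.natCast_zmod_val i]
  rw [natFn, ← Int.cast_natCast i.val, ZMod.lift_coe]
  simp

theorem natFn_map [Fact p.Prime] {A B : X.Etale} (f : A ⟶ B) (i : ZMod p) :
    fn f (natFn p h0 B i) = natFn p h0 A i := by
  rw [natFn_apply, natFn_apply, map_natCast]

theorem as_natFn [hp' : Fact p.Prime] (A : X.Etale) (i : ZMod p) : natFn p h0 A i ^ p - natFn p h0 A i = 0 := by
  rw [natFn_apply, sub_eq_zero]
  induction i.val with
  | zero => simp [hp'.out.ne_zero]
  | succ n ih =>
    rw [Nat.cast_succ, W4c5etcohweilstudent.add_pow_prime_of_natCast_eq_zero p hp'.out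
      (natCast_eq_zero_etale p h0 A), ih, one_pow]

theorem natFn_injective [Fact p.Prime] (A : X.Etale) [Nonempty A.left] :
    Function.Injective (natFn p h0 A) := by
  refine (injective_iff_map_eq_zero _).2 fun i hi => ?_
  by_contra hne
  rw [natFn_apply] at hi
  have hc : Nat.Coprime i.val p := ((Fact.out : p.Prime).coprime_iff_not_dvd.2 fun hd => hne <| by
    rw [← ZMod.natCast_zmod_val i]; exact (ZMod.natCast_eq_zero_iff _ _).2 hd).symm
  obtain ⟨s, t, hst⟩ := Nat.Coprime.cast (R := Γ(A.left, ⊤)) hc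
  rw [hi, natCast_eq_zero_etale p h0 A, mul_zero, mul_zero, add_zero] at hst
  obtain ⟨x⟩ := ‹Nonempty A.left›
  haveI : Nontrivial Γ(A.left, ⊤) := (A.left.presheaf.germ ⊤ x trivial).hom.domain_nontrivial
  exact zero_ne_one hst

theorem as_prod {K : Type*} [Field K] (q : ℕ) [Fact q.Prime] [CharP K q] (b : K) (hb : b ^ q = b) :
    ∃ i : ZMod q, b = (i.val : K) := by
  by_contra hne
  push_neg at hne
  let P : K[X] := Polynomial.X ^ q - Polynomial.X
  have hP : P ≠ 0 := FiniteField.X_pow_card_sub_X_ne_zero K (Fact.out : q.Prime).one_lt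
  classical
  let S : Finset K := insert b (Finset.univ.image fun i : ZMod q => (i.val : K))
  have hS : S.card = q + 1 := by
    rw [Finset.card_insert_of_notMem (by simpa using fun i => (hne i).symm), Finset.card_image_of_injective _ ?_]
    · simp
    · intro i j hij
      exact ZMod.val_injective q (CharP.natCast_injOn_Iio K q (ZMod.val_lt i) (ZMod.val_lt j) hij)
  have hle : S.card ≤ P.natDegree := by
    refine card_le_degree_of_subset_roots fun y hy => ?_
    rw [Finset.mem_val, Finset.mem_insert, Finset.mem_image] at hy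
    rw [mem_roots hP]
    rcases hy with rfl | ⟨i, -, rfl⟩
    · simp [P, hb]
    · simp only [P, IsRoot.def, eval_sub, eval_pow, eval_X]
      rw [← frobenius_def, map_natCast, sub_self]
  rw [hS, FiniteField.X_pow_card_sub_X_natDegree_eq K (Fact.out : q.Prime).one_lt] at hle
  omega

theorem locally_natFn [Fact p.Prime] (T : X.Etale) (b : Γ(T.left, ⊤)) (hb : b ^ p = b) (x : T.left) :
    ∃ (W : X.Etale) (h : W ⟶ T) (w : W.left) (i : ZMod p), h.left w = x ∧ fn h b = natFn p h0 W i := by
  haveI : AlgebraicGeometry.Etale T.hom := T.prop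
  let π := (T.left.presheaf.germ ⊤ x trivial ≫ T.left.residue x).hom
  haveI : CharP (T.left.residueField x) p :=
    CharP.ringChar_of_prime_eq_zero (Fact.out : p.Prime)
      (by rw [← map_natCast π, natCast_eq_zero_etale p h0 T, map_zero]) ▸ ringChar.charP _
  obtain ⟨i, hi⟩ := as_prod p (π b) (by rw [← map_pow, hb])
  let c : Γ(T.left, ⊤) := b - (i.val : Γ(T.left, ⊤))
  have hc : c ^ p = c := by
    have h := W4c5etcohweilstudent.add_pow_prime_of_natCast_eq_zero p (Fact.out : p.Prime)
      (natCast_eq_zero_etale p h0 T) c (i.val : Γ(T.left, ⊤))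
    have e := as_natFn p h0 T i
    rw [natFn_apply, sub_eq_zero] at e
    rw [sub_add_cancel, hb, e] at h
    exact (eq_sub_of_add_eq h.symm)
  let d : Γ(T.left, ⊤) := 1 - c ^ (p - 1)
  have hd : IsUnit (T.left.presheaf.germ ⊤ x trivial d) := by
    refine (IsLocalRing.residue_ne_zero_iff_isUnit _).1 ?_
    show π d ≠ 0
    have hπc : π c = 0 := by rw [map_sub, hi, map_natCast, sub_self]
    simp [d, hπc, Nat.sub_ne_zero_of_lt (Fact.out : p.Prime).one_lt]
  let O : T.left.Opens := T.left.basicOpen d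
  have hxO : x ∈ O := (Scheme.mem_basicOpen _ d x trivial).2 hd
  let W : X.Etale := MorphismProperty.Over.mk ⊤ (O.ι ≫ T.hom) (inferInstanceAs (AlgebraicGeometry.Etale (O.ι ≫ T.hom)))
  let h : W ⟶ T := MorphismProperty.Over.homMk O.ι rfl
  refine ⟨W, h, ⟨x, hxO⟩, i, rfl, ?_⟩
  have hu : IsUnit (fn h d) := by
    refine RingedSpace.isUnit_of_isUnit_germ W.left.toRingedSpace ⊤ (fn h d) fun y hy => ?_
    refine (Scheme.mem_basicOpen W.left (fn h d) y hy).1 ?_
    rw [← Scheme.preimage_basicOpen_top]
    exact y.2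
  have hz : fn h d * fn h c = 0 := by
    rw [← map_mul, show d * c = c - c ^ (p - 1) * c by simp [d, sub_mul], ← pow_succ,
      Nat.sub_add_cancel (Fact.out : p.Prime).one_le, hc, sub_self, map_zero]
  have := hu.mul_right_eq_zero.1 hz
  rwa [map_sub, map_natCast, sub_eq_zero, ← natFn_apply p h0 W] at this

/-- the constant sheaf as functions -/
noncomputable def constGaPre [Fact p.Prime] :
    (Functor.const X.Etaleᵒᵖ).obj (AddCommGrpCat.of (ULift.{u + 1} (ZMod p))) ⟶ (EtCoh.Ga X).obj where
  app A := AddCommGrpCat.ofHom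
    { toFun := fun i => ULift.up (natFn p h0 A.unop i.down)
      map_zero' := ULift.ext _ _ (map_zero _)
      map_add' := fun i j => ULift.ext _ _ (map_add _ i.down j.down) }
  naturality A B f := by
    ext i
    exact ULift.ext _ _ (natFn_map p h0 f.unop i.down).symm

/-- the inclusion of the constant sheaf in the additive group -/
noncomputable def constGa [Fact p.Prime] : EtCoh.const X (ZMod p) ⟶ EtCoh.Ga X :=
  ⟨sheafifyLift X.smallEtaleTopology (constGaPre p h0) (EtCoh.Ga X).property⟩

theorem toSheafify_constGa [Fact p.Prime] :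
    toSheafify X.smallEtaleTopology _ ≫ (constGa p h0).hom = constGaPre p h0 :=
  toSheafify_sheafifyLift _ _ _

theorem constGa_as [hp' : Fact p.Prime] : constGa p h0 ≫ artinSchreierEndo X p hp'.out h0 = 0 := by
  refine ObjectProperty.hom_ext _ (sheafify_hom_ext X.smallEtaleTopology _ _ (EtCoh.Ga X).property ?_)
  refine (Category.assoc _ _ _).symm.trans
    ((congrArg (· ≫ (artinSchreierEndo X p hp'.out h0).hom) (toSheafify_constGa p h0)).trans ?_)
  refine Eq.trans ?_ comp_zero.symm
  refine NatTrans.ext (funext fun A => ?_)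
  ext i
  exact ULift.ext _ _ (as_natFn p h0 A.unop i.down)

instance mono_constGa [Fact p.Prime] : Mono (constGa p h0) := by
  haveI : Presheaf.IsLocallyInjective X.smallEtaleTopology (constGaPre p h0) := ⟨fun {T} a b hab => by
    rcases isEmpty_or_nonempty T.unop.left with hT | hT
    · exact (Groth.L27.EtSite.mem_topology_iff _).2 fun x => isEmptyElim x
    suffices a = b by subst this; rw [Presheaf.equalizerSieve_self_eq_top]; exact X.smallEtaleTopology.top_mem _
    exact ULift.ext _ _ (natFn_injective p h0 T.unop (congrArg ULift.down hab))⟩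
  haveI : Sheaf.IsLocallyInjective (constGa p h0) := Presheaf.isLocallyInjective_of_isLocallyInjective_of_isLocallySurjective_fac
    X.smallEtaleTopology (f₁ := toSheafify _ _) (f₂ := (constGa p h0).hom) (constGaPre p h0) (toSheafify_constGa p h0)
  exact Sheaf.mono_of_isLocallyInjective _

/-- the Artin–Schreier sequence -/
noncomputable def asSeq [hp' : Fact p.Prime] : ShortComplex (EtCoh.Ab X) :=
  ShortComplex.mk (constGa p h0) (artinSchreierEndo X p hp'.out h0) (constGa_as p h0)

theorem shortExact_asSeq [hp' : Fact p.Prime] : (asSeq p h0).ShortExact := by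
  haveI := epi_artinSchreierEndo p hp'.out h0
  let K := kernel (artinSchreierEndo X p hp'.out h0)
  let k : EtCoh.const X (ZMod p) ⟶ K := kernel.lift _ _ (constGa_as p h0)
  let ι : K ⟶ EtCoh.Ga X := kernel.ι _
  have hk : k ≫ ι = constGa p h0 := kernel.lift_ι _ _ _
  have hι : ∀ A : X.Etale, Function.Injective (ι.hom.app (op A)) := fun A =>
    (AddCommGrpCat.mono_iff_injective _).1
      (inferInstanceAs (Mono ((sheafToPresheaf _ _ ⋙ (evaluation _ _).obj (op A)).map ι)))
  haveI : Sheaf.IsLocallySurjective k := ⟨fun {T} s => by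
    refine (Groth.L27.EtSite.mem_topology_iff _).2 fun x => ?_
    have hb : toFn T (ι.hom.app (op T) s) ^ p = toFn T (ι.hom.app (op T) s) := by
      refine sub_eq_zero.1 ((toFn_as p hp'.out h0 T _).symm.trans ?_)
      have h := ConcreteCategory.congr_hom (congrArg (fun g => g.hom.app (op T))
        (kernel.condition (artinSchreierEndo X p hp'.out h0))) s
      exact (congrArg (toFn T) h).trans (map_zero _)
    obtain ⟨W, h, w, i, hw, hi⟩ := locally_natFn p h0 T _ hb x
    refine ⟨W, h, w, ⟨((toSheafify X.smallEtaleTopology ((Functor.const X.Etaleᵒᵖ).obj (AddCommGrpCat.of (ULift.{u + 1} (ZMod p))))).app (op W)).hom (ULift.up i), hι W ?_⟩, hw⟩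
    refine Eq.trans ?_ (NatTrans.naturality_apply ι.hom h.op s).symm
    refine (ConcreteCategory.congr_hom (congrArg (fun g => g.hom.app (op W)) hk) _).trans ?_
    refine (ConcreteCategory.congr_hom (congrArg (fun g => g.app (op W)) (toSheafify_constGa p h0)) _).trans ?_
    exact ULift.ext _ _ hi.symm⟩
  haveI : Epi k := (Sheaf.isLocallySurjective_iff_epi' AddCommGrpCat.{u + 1} _).mp inferInstance
  exact
    { exact := (asSeq p h0).exact_iff_epi_kernel_lift.2 ‹_›
      mono_f := mono_constGa p h0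
      epi_g := ‹_› }

end Groth.L28.EtCartan
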