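import Groth.Agent.L28.EtCartan.Amitsur
import Groth.Agent.L02.An.LanFlat
import Groth.Agent.L00.RDerLES
import Groth.Agent.L27.EtZar.Main
import Groth.Agent.L27.ExtZero.Restr
import Groth.Agent.L27.ExtZero.Cont
import Groth.Agent.L27.EtSite.HofPush
import Groth.Agent.L28.Supp.DerComp
import Groth.Prelude.Def_EtZar
import Mathlib.Algebra.Category.Grp.AB

/-!
Comparison of the étale and Zariski sites for sheaves without cohomology on affines.
-/

set_option autoImplicit false
set_option linter.style.haveILetI false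
set_option linter.unusedSectionVars false
set_option backward.isDefEq.respectTransparency.types false

universe u

open CategoryTheory CategoryTheory.Limits AlgebraicGeometry Opposite TopologicalSpace

namespace Groth.L28.EtCartan

variable (X : Scheme.{u})

theorem exists_toOpen {Z : X.Etale} {U : X.Opens} (h : Set.range Z.hom ⊆ (U : Set X)) :
    Nonempty (Z ⟶ (EtZar.zarToEt X).obj U) := by
  let z : Z.left ⟶ X := Z.hom
  let l : Z.left ⟶ (U : Scheme.{u}) := IsOpenImmersion.lift U.ι z (h.trans (Scheme.Opens.range_ι U).ge)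
  exact ⟨MorphismProperty.Over.homMk l (IsOpenImmersion.lift_fac U.ι z (h.trans (Scheme.Opens.range_ι U).ge))⟩

theorem range_subset_of_toOpen {Z : X.Etale} {U : X.Opens} (g : Z ⟶ (EtZar.zarToEt X).obj U) :
    Set.range Z.hom ⊆ (U : Set X) := by
  rintro _ ⟨z, rfl⟩
  rw [← MorphismProperty.Over.w g]
  exact (Scheme.Hom.comp_apply g.left U.ι z).symm ▸ (g.left z).2

instance zarToEt_flat : RepresentablyFlat (EtZar.zarToEt X) where
  cofiltered Z := by
    haveI : Nonempty (StructuredArrow Z (EtZar.zarToEt X)) :=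
      ⟨StructuredArrow.mk (exists_toOpen X (Z := Z) (U := ⊤) fun _ _ => trivial).some⟩
    haveI : IsCofilteredOrEmpty (StructuredArrow Z (EtZar.zarToEt X)) :=
      { cone_objs := fun a b =>
          ⟨StructuredArrow.mk (exists_toOpen X (Z := Z) (U := a.right ⊓ b.right)
              fun x hx => ⟨range_subset_of_toOpen X a.hom hx, range_subset_of_toOpen X b.hom hx⟩).some,
            StructuredArrow.homMk (homOfLE inf_le_left) (Groth.L27.EtZarDense.hom_subsingleton X _ _),
            StructuredArrow.homMk (homOfLE inf_le_right) (Groth.L27.EtZarDense.hom_subsingleton X _ _), trivial⟩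
        cone_maps := fun {a b} i j => ⟨a, 𝟙 a, by
          simp only [Category.id_comp]
          exact StructuredArrow.hom_ext _ _ (Subsingleton.elim _ _)⟩ }
    constructor

variable [EtZar.ZarCont X]

/-- inverse image from opens to the étale site -/
noncomputable abbrev zarPull : EtZar.Ab X ⥤ EtCoh.Ab X :=
  (EtZar.zarToEt X).sheafPullback AddCommGrpCat.{u + 1} (Opens.grothendieckTopology X) X.smallEtaleTopology

/-- the adjunction with restriction -/
noncomputable abbrev zarAdj : zarPull X ⊣ EtZar.resZar X :=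
  (EtZar.zarToEt X).sheafAdjunctionContinuous AddCommGrpCat.{u + 1} (Opens.grothendieckTopology X) X.smallEtaleTopology

theorem preservesFiniteLimits_zarPull : PreservesFiniteLimits (zarPull X) := by
  haveI : Small.{u + 1} X.Opens := small_lift.{u, u, u + 1} X.Opens
  haveI := Groth.L02.An.lan_preservesFiniteLimits.{u + 1} (EtZar.zarToEt X)
  exact Functor.sheafPullbackConstruction.preservesFiniteLimits (EtZar.zarToEt X) AddCommGrpCat.{u + 1}
    (Opens.grothendieckTopology X) X.smallEtaleTopology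

theorem injective_resZar (I : EtCoh.Ab X) [Injective I] : Injective ((EtZar.resZar X).obj I) := by
  haveI := preservesFiniteLimits_zarPull X
  haveI : (zarPull X).PreservesMonomorphisms := inferInstance
  exact Injective.injective_of_adjoint (zarAdj X) I

theorem isAffine_zarToEt {U : X.Opens} (hU : IsAffineOpen U) : IsAffine ((EtZar.zarToEt X).obj U).left := hU

theorem epi_resZar_map {A B : EtCoh.Ab X} (g : A ⟶ B)
    (h : ∀ U : X.Opens, IsAffineOpen U → Function.Surjective (g.hom.app (op ((EtZar.zarToEt X).obj U)))) :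
    Epi ((EtZar.resZar X).map g) := by
  refine ⟨fun {K} φ ψ e => ObjectProperty.hom_ext _ (NatTrans.ext (funext fun U => ConcreteCategory.hom_ext _ _ fun s => ?_))⟩
  let R : Sieve U.unop :=
    { arrows := fun W i => ∃ V : X.Opens, IsAffineOpen V ∧ W ≤ V ∧ V ≤ U.unop
      downward_closed := fun {W W' i} hi j => by
        obtain ⟨V, hV, h₁, h₂⟩ := hi
        exact ⟨V, hV, j.le.trans h₁, h₂⟩ }
  have hR : R ∈ Opens.grothendieckTopology X U.unop := fun x hx => by
    obtain ⟨V, hV, hxV, hVU⟩ := exists_isAffineOpen_mem_and_subset (U := U.unop) (x := x) hx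
    exact ⟨V, homOfLE hVU, ⟨V, hV, le_rfl, hVU⟩, hxV⟩
  have hK : Presieve.IsSheaf (Opens.grothendieckTopology X) (K.obj ⋙ CategoryTheory.forget AddCommGrpCat.{u + 1}) :=
    (isSheaf_iff_isSheaf_of_type _ _).1
      (GrothendieckTopology.HasSheafCompose.isSheaf (F := CategoryTheory.forget AddCommGrpCat.{u + 1}) K.obj K.property)
  refine (hK.isSeparated R hR).ext fun W i hi => ?_
  obtain ⟨V, hV, hWV, hVU⟩ := hi
  obtain ⟨t, ht⟩ := h V hV (((EtZar.resZar X).obj B).obj.map (homOfLE hVU).op s)
  have key : K.obj.map (homOfLE hVU).op (φ.hom.app U s) = K.obj.map (homOfLE hVU).op (ψ.hom.app U s) := by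
    refine (NatTrans.naturality_apply φ.hom (homOfLE hVU).op s).symm.trans
      (Eq.trans ?_ (NatTrans.naturality_apply ψ.hom (homOfLE hVU).op s))
    refine (congrArg (φ.hom.app (op V)) ht).symm.trans (Eq.trans ?_ (congrArg (ψ.hom.app (op V)) ht))
    exact ConcreteCategory.congr_hom (congrArg (fun k => k.hom.app (op V)) e) t
  show K.obj.map i.op (φ.hom.app U s) = K.obj.map i.op (ψ.hom.app U s)
  rw [show i = homOfLE hWV ≫ homOfLE hVU from Subsingleton.elim _ _, op_comp, Functor.map_comp_apply,
    Functor.map_comp_apply, key]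

/-- a class of sheaves closed under cosyzygies with surjective sections on affine opens is acyclic for restriction -/
theorem isZero_rightDerived_resZar [(EtZar.resZar X).Additive] (P : EtCoh.Ab X → Prop)
    (hsurj : ∀ T : ShortComplex (EtCoh.Ab X), T.ShortExact → P T.X₁ → ∀ U : X.Opens, IsAffineOpen U →
      Function.Surjective (T.g.hom.app (op ((EtZar.zarToEt X).obj U))))
    (hstep : ∀ T : ShortComplex (EtCoh.Ab X), T.ShortExact → Injective T.X₂ → P T.X₁ → P T.X₃)
    (n : ℕ) : ∀ G : EtCoh.Ab X, P G → IsZero (((EtZar.resZar X).rightDerived (n + 1)).obj G) := by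
  haveI : PreservesFiniteLimits (EtZar.resZar X) :=
    haveI := (zarAdj X).rightAdjoint_preservesLimits
    inferInstance
  letI := HasDerivedCategory.standard (EtCoh.Ab X)
  letI := HasDerivedCategory.standard (EtZar.Ab X)
  induction n with
  | zero =>
    intro G hG
    obtain ⟨T, hT, hI, rfl⟩ := Groth.L28.Supp.exists_presentation G
    haveI := epi_resZar_map X T.g (fun U hU => hsurj T hT hG U hU)
    haveI : Epi (((EtZar.resZar X).rightDerived 0).map T.g) := by
      refine ((MorphismProperty.epimorphisms _).arrow_mk_iso_iff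
        (Arrow.isoMk ((EtZar.resZar X).rightDerivedZeroIsoSelf.app _) ((EtZar.resZar X).rightDerivedZeroIsoSelf.app _)
          ((EtZar.resZar X).rightDerivedZeroIsoSelf.hom.naturality T.g).symm)).2 ‹_›
    exact Groth.L00.RDerLES.isZero_X₁ (EtZar.resZar X) hT 0
      ((EtZar.resZar X).isZero_rightDerived_obj_injective_succ 0 T.X₂)
  | succ n ih =>
    intro G hG
    obtain ⟨T, hT, hI, rfl⟩ := Groth.L28.Supp.exists_presentation G
    haveI : Epi (((EtZar.resZar X).rightDerived (n + 1)).map T.g) :=
      ⟨fun a b _ => (ih T.X₃ (hstep T hT hI hG)).eq_of_src a b⟩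
    exact Groth.L00.RDerLES.isZero_X₁ (EtZar.resZar X) hT (n + 1)
      ((EtZar.resZar X).isZero_rightDerived_obj_injective_succ (n + 1) T.X₂)

theorem isZero_rightDerived_of_acyc [(EtZar.resZar X).Additive] (G : EtCoh.Ab X) (hG : Acyc G) (n : ℕ) :
    IsZero (((EtZar.resZar X).rightDerived (n + 1)).obj G) :=
  isZero_rightDerived_resZar X Acyc
    (fun T hT h U hU => haveI := isAffine_zarToEt X hU; surjective_sections hT h)
    (fun T hT hI h => haveI := hI; acyc_X₃ hT h (acyc_of_injective T.X₂)) n G hG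

/-- constant sheaves -/
noncomputable def zarPullConstIso :
    constantSheaf (Opens.grothendieckTopology X) AddCommGrpCat.{u + 1} ⋙ zarPull X ≅
      constantSheaf X.smallEtaleTopology AddCommGrpCat.{u + 1} :=
  Adjunction.leftAdjointUniq
    (((constantSheafAdj (Opens.grothendieckTopology X) AddCommGrpCat.{u + 1} (Groth.L27.EtZarDense.zarTopTerminal X)).comp
      (zarAdj X)).ofNatIsoRight
        ((sheafSections X.smallEtaleTopology AddCommGrpCat.{u + 1}).mapIso (Groth.L27.EtZarDense.topIso X).symm.op))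
    (EtCore.constAdj X)

/-- acyclicity for restriction identifies the two cohomologies -/
theorem exists_H_resZar [(EtZar.resZar X).Additive] (F : EtCoh.Ab X)
    (hF : ∀ n : ℕ, IsZero (((EtZar.resZar X).rightDerived (n + 1)).obj F)) (p : ℕ) :
    ∃ e : EtZar.H ((EtZar.resZar X).obj F) p ≃+ EtCoh.H X F p,
      ∀ (α : F ⟶ F) x, e (Sheaf.H.map ((EtZar.resZar X).map α) p x) = (EtCoh.HF X p).map α (e x) := by
  haveI := preservesFiniteLimits_zarPull X
  haveI : PreservesFiniteColimits (zarPull X) :=
    haveI := (zarAdj X).leftAdjoint_preservesColimits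
    inferInstance
  haveI : (zarPull X).Additive := (zarAdj X).left_adjoint_additive
  haveI : PreservesFiniteLimits (EtZar.resZar X) :=
    haveI := (zarAdj X).rightAdjoint_preservesLimits
    inferInstance
  let Z := AddCommGrpCat.of (ULift.{u + 1} ℤ)
  let A := (constantSheaf (Opens.grothendieckTopology X) AddCommGrpCat.{u + 1}).obj Z
  let c := (zarPullConstIso X).app Z
  have hb := Groth.L27.ExtAdj.bijective_phi.{u + 1, u + 1} (zarAdj X) (A := A) p F
    (fun q hq => by obtain ⟨q, rfl⟩ := Nat.exists_eq_succ_of_ne_zero hq.ne'; exact hF q)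
  let e₁ : EtZar.H ((EtZar.resZar X).obj F) p ≃+ Abelian.Ext.{u + 1} ((zarPull X).obj A) F p :=
    AddEquiv.ofBijective
      (AddMonoidHom.mk' (Groth.L27.ExtAdj.phi.{u + 1, u + 1} (zarAdj X) A F p) (fun x y => by
        rw [Groth.L27.ExtAdj.phi, Abelian.Ext.mapExactFunctor_add, Abelian.Ext.add_comp]
        rfl)) hb
  refine ⟨e₁.trans
    { toFun := fun x => (Abelian.Ext.mk₀ c.inv).comp x (zero_add p)
      invFun := fun x => (Abelian.Ext.mk₀ c.hom).comp x (zero_add p)
      left_inv := fun x => by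
        show (Abelian.Ext.mk₀ c.hom).comp ((Abelian.Ext.mk₀ c.inv).comp x (zero_add p)) (zero_add p) = x
        simp only [Abelian.Ext.mk₀_comp_mk₀_assoc, Iso.hom_inv_id]
        exact Abelian.Ext.mk₀_id_comp x
      right_inv := fun x => by
        show (Abelian.Ext.mk₀ c.inv).comp ((Abelian.Ext.mk₀ c.hom).comp x (zero_add p)) (zero_add p) = x
        simp only [Abelian.Ext.mk₀_comp_mk₀_assoc, Iso.inv_hom_id]
        exact Abelian.Ext.mk₀_id_comp x
      map_add' := fun x y => Abelian.Ext.comp_add _ _ _ _ }, fun α x => ?_⟩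
  have h := (congrArg (fun y => Groth.L27.ExtAdj.phi.{u + 1, u + 1} (zarAdj X) A F p y)
    (Sheaf.H.map_apply ((EtZar.resZar X).map α) x)).trans (Groth.L27.ExtAdj.phi_comp_map (zarAdj X) α p x)
  refine Eq.trans (congrArg (fun y => (Abelian.Ext.mk₀ c.inv).comp y (zero_add p)) h) ?_
  exact ((Groth.L27.EtSite.HF_map_apply α p _).trans (Abelian.Ext.comp_assoc_of_third_deg_zero _ _ _ _)).symm

theorem nonempty_H_resZar [(EtZar.resZar X).Additive] (F : EtCoh.Ab X)
    (hF : ∀ n : ℕ, IsZero (((EtZar.resZar X).rightDerived (n + 1)).obj F)) (p : ℕ) :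
    Nonempty (EtZar.H ((EtZar.resZar X).obj F) p ≃+ EtCoh.H X F p) :=
  let ⟨e, _⟩ := exists_H_resZar X F hF p; ⟨e⟩

/-- higher cohomology vanishes on all affine étale objects -/
def AffVanish (G : EtCoh.Ab X) : Prop :=
  ∀ (T : X.Etale), IsAffine T.left → ∀ i : ℕ, 1 ≤ i → Subsingleton (EtCoh.H T.left ((EtCoh.pull T.hom).obj G) i)

variable {X}

theorem affVanish_surjective {S : ShortComplex (EtCoh.Ab X)} (hS : S.ShortExact) (h : AffVanish X S.X₁)
    (T : X.Etale) [IsAffine T.left] : Function.Surjective (S.g.hom.app (op T)) := by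
  let v : T.left ⟶ X := T.hom
  haveI : AlgebraicGeometry.Etale v := T.prop
  haveI := Groth.L27.ExtZero.jCont v
  haveI : PreservesLimitsOfSize.{0, 0} (EtShriek.restrAlong v) := (EtShriek.extZeroAdj v).rightAdjoint_preservesLimits
  haveI : PreservesColimitsOfSize.{0, 0} (EtShriek.restrAlong v) := (Groth.L27.ExtZero.restrAdj v).leftAdjoint_preservesColimits
  have hR : (S.map (EtShriek.restrAlong v)).ShortExact := hS.map_of_exact _
  haveI : Subsingleton (EtCoh.H T.left (S.map (EtShriek.restrAlong v)).X₁ 1) :=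
    @Function.Injective.subsingleton _ _ _
      ((EtCoh.HF T.left 1).mapIso ((Groth.L27.ExtZero.pullRestr v).app S.X₁)).addCommGroupIsoToAddEquiv.symm.injective
      (h T ‹_› 1 le_rfl)
  intro s
  let i : (EtShriek.compEtale v).obj (EtCoh.top T.left) ⟶ T := MorphismProperty.Over.homMk (𝟙 T.left) (by
    show 𝟙 T.left ≫ v = 𝟙 T.left ≫ v; rfl)
  let i' : T ⟶ (EtShriek.compEtale v).obj (EtCoh.top T.left) := MorphismProperty.Over.homMk (𝟙 T.left) (by
    show 𝟙 T.left ≫ 𝟙 T.left ≫ T.hom = T.hom; rw [Category.id_comp, Category.id_comp])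
  have hi : i' ≫ i = 𝟙 T := MorphismProperty.Over.Hom.ext (Category.id_comp _)
  let s' : ((EtShriek.restrAlong v).obj S.X₃).obj.obj (op (EtCoh.top T.left)) := S.X₃.obj.map i.op s
  let y := (Sheaf.H.equiv₀ _ (EtCore.topIsTerminal T.left)).symm s'
  obtain ⟨z, hz⟩ := Abelian.Ext.covariant_sequence_exact₃ _ hR y (zero_add 1) (Subsingleton.elim _ _)
  refine ⟨S.X₂.obj.map i'.op (Sheaf.H.equiv₀ _ (EtCore.topIsTerminal T.left) z), ?_⟩
  have hz' : (S.map (EtShriek.restrAlong v)).g.hom.app (op (EtCoh.top T.left))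
      (Sheaf.H.equiv₀ _ (EtCore.topIsTerminal T.left) z) = s' := by
    refine ((Sheaf.H.equiv₀ _ (EtCore.topIsTerminal T.left)).symm.injective ?_)
    rw [← Sheaf.H.equiv₀_symm_naturality, AddEquiv.symm_apply_apply, Sheaf.H.map_apply]
    exact hz
  refine (NatTrans.naturality_apply S.g.hom i'.op _).trans ((congrArg (S.X₃.obj.map i'.op) hz').trans ?_)
  show S.X₃.obj.map i'.op (S.X₃.obj.map i.op s) = s
  rw [← Functor.map_comp_apply, ← op_comp, hi, op_id, Functor.map_id_apply]

theorem affVanish_X₃ {S : ShortComplex (EtCoh.Ab X)} (hS : S.ShortExact) [Injective S.X₂] (h : AffVanish X S.X₁) :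
    AffVanish X S.X₃ := by
  intro T hT i hi
  let v : T.left ⟶ X := T.hom
  haveI : AlgebraicGeometry.Etale v := T.prop
  haveI := Groth.L27.ExtZero.jCont v
  haveI : PreservesLimitsOfSize.{0, 0} (EtShriek.restrAlong v) := (EtShriek.extZeroAdj v).rightAdjoint_preservesLimits
  haveI : PreservesColimitsOfSize.{0, 0} (EtShriek.restrAlong v) := (Groth.L27.ExtZero.restrAdj v).leftAdjoint_preservesColimits
  have hR : (S.map (EtShriek.restrAlong v)).ShortExact := hS.map_of_exact _
  haveI : Injective (S.map (EtShriek.restrAlong v)).X₂ := Groth.L27.ExtZero.injective_restrAlong v S.X₂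
  haveI : Subsingleton (EtCoh.H T.left (S.map (EtShriek.restrAlong v)).X₁ (i + 1)) :=
    @Function.Injective.subsingleton _ _ _
      ((EtCoh.HF T.left (i + 1)).mapIso ((Groth.L27.ExtZero.pullRestr v).app S.X₁)).addCommGroupIsoToAddEquiv.symm.injective
      (h T hT (i + 1) (by omega))
  haveI : Subsingleton (EtCoh.H T.left ((EtShriek.restrAlong v).obj S.X₃) i) := by
    obtain ⟨m, rfl⟩ : ∃ m, i = m + 1 := ⟨i - 1, by omega⟩
    refine subsingleton_of_forall_eq 0 fun y => ?_
    obtain ⟨z, rfl⟩ := Abelian.Ext.covariant_sequence_exact₃ _ hR y rfl (Subsingleton.elim _ _)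
    rw [Abelian.Ext.eq_zero_of_injective z]
    exact Abelian.Ext.zero_comp _ _ _ _ _
  exact @Function.Injective.subsingleton _ _ _
    ((EtCoh.HF T.left i).mapIso ((Groth.L27.ExtZero.pullRestr v).app S.X₃)).addCommGroupIsoToAddEquiv.injective ‹_›

variable (X)

/-- restriction along the identity -/
noncomputable def restrIdIso [EtShriek.JCont (𝟙 X)] (G : EtCoh.Ab X) :
    G ≅ (EtShriek.restrAlong (𝟙 X)).obj G :=
  let e : ∀ T : X.Etale, (EtShriek.compEtale (𝟙 X)).obj T ≅ T := fun T =>
    MorphismProperty.Over.isoMk (Iso.refl _) (by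
      show 𝟙 T.left ≫ T.hom = T.hom ≫ 𝟙 X
      exact (Category.id_comp _).trans (Category.comp_id _).symm)
  (fullyFaithfulSheafToPresheaf _ _).preimageIso
    (NatIso.ofComponents (fun T => G.obj.mapIso (e T.unop).op) fun {T T'} f => by
      refine (G.obj.map_comp _ _).symm.trans (Eq.trans ?_ (G.obj.map_comp _ _))
      refine congrArg (fun k => G.obj.map (Quiver.Hom.op k)) (MorphismProperty.Over.Hom.ext ?_)
      show 𝟙 T'.unop.left ≫ f.unop.left = f.unop.left ≫ 𝟙 T.unop.left
      rw [Category.id_comp, Category.comp_id])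

theorem subsingleton_H_resZar [IsAffine X] (G : EtCoh.Ab X) (hG : AffVanish X G) (i : ℕ) (hi : 1 ≤ i) :
    Subsingleton (EtZar.H ((EtZar.resZar X).obj G) i) := by
  haveI : (EtZar.resZar X).Additive :=
    haveI := (zarAdj X).rightAdjoint_preservesLimits
    Functor.additive_of_preserves_binary_products _
  obtain ⟨e⟩ := nonempty_H_resZar X G (fun n => isZero_rightDerived_resZar X (AffVanish X)
    (fun T hT h U hU => haveI := isAffine_zarToEt X hU; affVanish_surjective hT h _)
    (fun T hT hI h => haveI := hI; affVanish_X₃ hT h) n G hG) i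
  haveI : AlgebraicGeometry.Etale (𝟙 X) := inferInstance
  haveI := Groth.L27.ExtZero.jCont (𝟙 X)
  haveI : Subsingleton (EtCoh.H X ((EtCoh.pull (𝟙 X)).obj G) i) :=
    hG (EtCoh.top X) (inferInstanceAs (IsAffine X)) i hi
  let h : Subsingleton (EtCoh.H X G i) :=
    @Function.Injective.subsingleton _ _ _
      ((EtCoh.HF X i).mapIso (restrIdIso X G ≪≫ ((Groth.L27.ExtZero.pullRestr (𝟙 X)).app G).symm)).addCommGroupIsoToAddEquiv.injective
      ‹Subsingleton (EtCoh.H X ((EtCoh.pull (𝟙 X)).obj G) i)›
  exact e.injective.subsingleton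

end Groth.L28.EtCartan
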