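import Groth.Agent.L28.EtCartan.ZarGa
import Groth.Agent.L28.EtCartan.ArtinSchreier
import Groth.Agent.L16.ProperFinite
import Groth.Agent.L18.Ample
import Groth.Agent.L28.EtCartan.SepFrobenius

/-!
Artin–Schreier on cohomology of proper schemes over separably closed fields.
-/

set_option autoImplicit false
set_option linter.style.haveILetI false
set_option linter.unusedSectionVars false
set_option backward.isDefEq.respectTransparency.types false

universe u

open CategoryTheory CategoryTheory.Limits AlgebraicGeometry Opposite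
open W4c5etcohweilstudent (artinSchreierEndo add_pow_prime_of_natCast_eq_zero)

namespace Groth.L28.EtCartan

variable {X : Scheme.{u}} (p : ℕ) (hp : p.Prime) (h0 : (p : Γ(X, ⊤)) = 0)

/-- the `p`-th power map on functions on an open -/
noncomputable def powHom (U : X.Opens) : Γ(X, U) →+ Γ(X, U) where
  toFun x := x ^ p
  map_zero' := zero_pow hp.ne_zero
  map_add' x y := add_pow_prime_of_natCast_eq_zero p hp (by
    have h := congrArg (X.presheaf.map (homOfLE (le_top (a := U))).op).hom h0
    rwa [map_natCast, map_zero] at h) x y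

/-- the `p`-th power map on functions -/
noncomputable def frobAb : Coh.toAb (Coh.structureModule X) ⟶ Coh.toAb (Coh.structureModule X) :=
  ⟨{ app := fun U => AddCommGrpCat.ofHom (powHom p hp h0 U.unop)
     naturality := fun U V f => ConcreteCategory.hom_ext _ _ fun (x : Γ(X, U.unop)) =>
       (map_pow (X.presheaf.map f).hom x p).symm }⟩

theorem smulAb_frobAb (r : Coh.Γtop X) :
    Coh.smulAb (Coh.structureModule X) r ≫ frobAb p hp h0 =
      frobAb p hp h0 ≫ Coh.smulAb (Coh.structureModule X) (r ^ p) := by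
  ext U x
  let a : Γ(X, U.unop) := Coh.resTop X U r
  let x' : Γ(X, U.unop) := x
  show (a * x') ^ p = (show Γ(X, U.unop) from Coh.resTop X U (r ^ p)) * x' ^ p
  refine (mul_pow a x' p).trans ?_
  exact congrArg (fun z : Γ(X, U.unop) => z * x' ^ p) (map_pow (Coh.resTop X U) r p).symm

theorem asEndo_zar [EtZar.ZarCont X] :
    (EtZar.resZar X).map (artinSchreierEndo X p hp h0) ≫ (gaZarIso X).hom =
      (gaZarIso X).hom ≫ (Groth.L28.UnivLift.lift X).map (frobAb p hp h0 - 𝟙 _) := by
  refine ObjectProperty.hom_ext _ (NatTrans.ext (funext fun U => ?_))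
  ext ⟨x⟩
  refine ULift.ext _ _ ?_
  let W : X.Opens := U.unop
  let x' : Γ(W.toScheme, ⊤) := x
  show W.topIso.hom.hom (x' ^ p - x') = W.topIso.hom.hom x' ^ p - W.topIso.hom.hom x'
  rw [map_sub, map_pow]

variable {k : Type u} [Field k] [X.Over (Spec (CommRingCat.of k))]

/-- the `p`-th power map on coherent cohomology -/
noncomputable def frobH (n : ℕ) :
    Coh.HH X (Coh.structureModule X) n →+ Coh.HH X (Coh.structureModule X) n :=
  Sheaf.H.map (frobAb p hp h0) n

theorem frobH_smul (n : ℕ) (c : k) (v : Coh.HH X (Coh.structureModule X) n) :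
    frobH p hp h0 n (c • v) = c ^ p • frobH p hp h0 n v := by
  let g := Coh.toGlobal (X ↘ Spec (CommRingCat.of k))
  show Sheaf.H.map (frobAb p hp h0) n (Sheaf.H.map (Coh.smulAb _ (g c)) n v) =
    Sheaf.H.map (Coh.smulAb _ (g (c ^ p))) n (Sheaf.H.map (frobAb p hp h0) n v)
  rw [← Sheaf.H.map_comp_apply, ← Sheaf.H.map_comp_apply, map_pow, smulAb_frobAb]

theorem finite_HH_structure [IsProper (X ↘ Spec (CommRingCat.of k))] (n : ℕ) :
    FiniteDimensional k (Coh.HH X (Coh.structureModule X) n) := by
  haveI : IsLocallyNoetherian X := LocallyOfFiniteType.isLocallyNoetherian (X ↘ Spec (CommRingCat.of k))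
  exact Groth.L16.ProperFinite.finite_HH k (Groth.L16.ProperFinite.isCoh_of_isInvertible (Groth.L18.Ample.isInvertible_structureModule X)) n

/-- the Artin–Schreier endomorphism on the two cohomologies -/
theorem exists_H_as [EtZar.ZarCont X] (n : ℕ) :
    ∃ e : Coh.HH X (Coh.structureModule X) n ≃+ EtCoh.H X (EtCoh.Ga X) n,
      ∀ x, e (frobH p hp h0 n x - x) = (EtCoh.HF X n).map (artinSchreierEndo X p hp h0) (e x) := by
  obtain ⟨e, he⟩ := exists_H_Ga X n
  refine ⟨e, fun x => ?_⟩
  have h := he _ _ (asEndo_zar p hp h0) x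
  rw [← h]
  refine congrArg e ?_
  rw [Sheaf.H.map_apply, frobH, Sheaf.H.map_apply, sub_eq_add_neg (frobAb p hp h0), Abelian.Ext.mk₀_add,
    Abelian.Ext.comp_add, Abelian.Ext.mk₀_neg, Abelian.Ext.comp_neg, Abelian.Ext.comp_mk₀_id, sub_eq_add_neg]

variable [IsSepClosed k] [hp' : Fact p.Prime] [CharP k p] [IsProper (X ↘ Spec (CommRingCat.of k))]

include k in
/-- the Artin–Schreier endomorphism is surjective on cohomology -/
theorem surjective_HF_as (n : ℕ) :
    Function.Surjective ((EtCoh.HF X n).map (artinSchreierEndo X p hp h0)) := by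
  haveI := zarCont X
  haveI := finite_HH_structure (X := X) (k := k) n
  obtain ⟨e, he⟩ := exists_H_as p hp h0 n
  intro y
  obtain ⟨v, hv⟩ := SepFrobenius.surjective p (frobH p hp h0 n) (frobH_smul (k := k) p hp h0 n) (e.symm y)
  refine ⟨e v, ?_⟩
  rw [← he]
  exact (congrArg e hv).trans (e.apply_symm_apply y)

set_option maxHeartbeats 800000 in
include hp h0 in
/-- cohomology of constant `p`-torsion coefficients is finite -/
theorem finite_H_const (n : ℕ) :
    Finite (EtCoh.H X (EtCoh.const X (ZMod p)) n) ∧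
      Nat.card (EtCoh.H X (EtCoh.const X (ZMod p)) n) ≤
        p ^ Module.finrank k (Coh.HH X (Coh.structureModule X) n) := by
  haveI := zarCont X
  haveI := finite_HH_structure (X := X) (k := k) n
  obtain ⟨e, he⟩ := exists_H_as p hp h0 n
  obtain ⟨hfin, hcard⟩ := SepFrobenius.finite_fixed p (frobH p hp h0 n) (frobH_smul (k := k) p hp h0 n)
  have hT := shortExact_asSeq (X := X) p h0
  let j : EtCoh.H X (EtCoh.const X (ZMod p)) n →+ EtCoh.H X (EtCoh.Ga X) n :=
    ((EtCoh.HF X n).map (constGa p h0)).hom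
  have hj0 : ∀ z, (EtCoh.HF X n).map (artinSchreierEndo X p hp h0) (j z) = 0 := fun z => by
    show (EtCoh.HF X n).map (artinSchreierEndo X p hp h0) ((EtCoh.HF X n).map (constGa p h0) z) = 0
    rw [Groth.L27.EtSite.HF_map_apply, Groth.L27.EtSite.HF_map_apply, Abelian.Ext.comp_assoc_of_second_deg_zero,
      Abelian.Ext.mk₀_comp_mk₀, constGa_as p h0, Abelian.Ext.mk₀_zero, Abelian.Ext.comp_zero]
    rfl
  have hj : Function.Injective j := by
    refine (injective_iff_map_eq_zero j).2 fun z hz => ?_
    have hz' : Abelian.Ext.comp z (Abelian.Ext.mk₀ (constGa p h0)) (add_zero n) = 0 :=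
      (Groth.L27.EtSite.HF_map_apply _ n z).symm.trans hz
    cases n with
    | zero =>
      obtain ⟨a, rfl⟩ := (Abelian.Ext.mk₀_bijective _ _).2 z
      rw [Abelian.Ext.mk₀_comp_mk₀, ← Abelian.Ext.mk₀_zero] at hz'
      have h1 : a ≫ constGa p h0 = 0 ≫ constGa p h0 :=
        ((Abelian.Ext.mk₀_bijective _ _).1 hz').trans zero_comp.symm
      rw [(cancel_mono (constGa p h0)).1 h1, Abelian.Ext.mk₀_zero]
    | succ m =>
      obtain ⟨w, rfl⟩ := Abelian.Ext.covariant_sequence_exact₁ _ hT z hz' rfl
      obtain ⟨w', hw'⟩ := surjective_HF_as (k := k) p hp h0 m w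
      rw [← hw', Groth.L27.EtSite.HF_map_apply]
      exact (Abelian.Ext.comp_assoc_of_second_deg_zero _ _ _ _).trans
        ((congrArg (fun r => Abelian.Ext.comp w' r rfl) hT.comp_extClass).trans (Abelian.Ext.comp_zero _ _ _ _ _))
  let S : Set (Coh.HH X (Coh.structureModule X) n) := {v | frobH p hp h0 n v = v}
  let φ : EtCoh.H X (EtCoh.const X (ZMod p)) n → S := fun z => ⟨e.symm (j z), by
    refine sub_eq_zero.1 (e.injective ?_)
    rw [he, e.apply_symm_apply, hj0, map_zero]
    rfl⟩
  have hφ : Function.Injective φ := fun a b h => hj (e.symm.injective (congrArg Subtype.val h))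
  haveI : Finite S := hfin.to_subtype
  exact ⟨Finite.of_injective φ hφ, (Nat.card_le_card_of_injective φ hφ).trans hcard⟩

end Groth.L28.EtCartan
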