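import Groth.Agent.L28.ProEt.Cech.Basic
import Groth.Agent.L27.EtSite.Points
import Groth.Agent.L28.LocCoh.Shift
import Groth.Prelude.Def_EtBase
import Groth.Prelude.Def_EtCore
import Mathlib.AlgebraicGeometry.Morphisms.UniversallyOpen
import Mathlib.AlgebraicGeometry.Morphisms.FlatDescent
import Mathlib.Algebra.Homology.DerivedCategory.Ext.ExactSequences
import Mathlib.CategoryTheory.Abelian.Injective.Ext

/-!
Cartan's criterion on the small étale site, with affine objects and surjective maps between them.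
-/

set_option autoImplicit false
set_option linter.style.haveILetI false
set_option linter.unusedSectionVars false
set_option backward.isDefEq.respectTransparency.types false

universe u

open CategoryTheory CategoryTheory.Limits AlgebraicGeometry Opposite CategoryTheory.Abelian
open Groth.L10 (Nerve.N Nerve.δ Nerve.pr Nerve.bs Nerve.pr_w Nerve.δ_pr Nerve.δ_bs)
open Groth.L28.ProEt.Cech (d d_apply d_natural Acyclic res res_res)

namespace Groth.L28.EtCartan

variable {X : Scheme.{u}}

theorem d_d {C : Type*} [Category.{u} C] [HasFiniteWidePullbacks C] {V U : C} (p : V ⟶ U)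
    (P : Cᵒᵖ ⥤ AddCommGrpCat.{u + 1}) (n : ℕ) (x : P.obj (op (Nerve.N p n))) :
    d p P (n + 1) (d p P n x) = 0 := by
  obtain ⟨h, -⟩ := Groth.L28.ProEt.Cech.exact_dF.{u + 1} p n
  rw [← Groth.L28.ProEt.Cech.fpVal_desc.{u + 1} P x, ← Groth.L28.ProEt.Cech.fpVal_dF,
    ← Groth.L28.ProEt.Cech.fpVal_dF, ← Category.assoc, h, zero_comp]
  rfl

section Square

variable {C : Type*} [Category C] [HasFiniteWidePullbacks C] [HasPullbacks C] {V U : C} (p : V ⟶ U)

/-- the last vertex of the nerve is a base change -/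
theorem isPullback_last (n : ℕ) :
    IsPullback (Nerve.δ p (Fin.last (n + 1))) (Nerve.pr p (Fin.last (n + 1))) (Nerve.bs p n) p := by
  let a : Nerve.N p (n + 1) ⟶ pullback (Nerve.bs p n) p :=
    pullback.lift (Nerve.δ p (Fin.last (n + 1))) (Nerve.pr p (Fin.last (n + 1))) (by rw [Nerve.δ_bs, Nerve.pr_w])
  let b : pullback (Nerve.bs p n) p ⟶ Nerve.N p (n + 1) :=
    WidePullback.lift (pullback.fst _ _ ≫ Nerve.bs p n)
      (Fin.lastCases (pullback.snd _ _) fun k => pullback.fst _ _ ≫ Nerve.pr p k) fun k => by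
        induction k using Fin.lastCases with
        | last => rw [Fin.lastCases_last]; exact pullback.condition.symm
        | cast k => rw [Fin.lastCases_castSucc, Category.assoc]; exact congrArg _ (Nerve.pr_w p k)
  have hb : ∀ k, b ≫ Nerve.pr p k =
      Fin.lastCases (motive := fun _ => pullback (Nerve.bs p n) p ⟶ V) (pullback.snd _ _)
        (fun k => pullback.fst _ _ ≫ Nerve.pr p k) k := fun k => WidePullback.lift_π _ _ _ _ _
  let e : Nerve.N p (n + 1) ≅ pullback (Nerve.bs p n) p :=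
    { hom := a
      inv := b
      hom_inv_id := Groth.L10.Nerve.hom_ext p fun k => by
        rw [Category.assoc, hb, Category.id_comp]
        induction k using Fin.lastCases with
        | last => rw [Fin.lastCases_last, pullback.lift_snd]
        | cast k => rw [Fin.lastCases_castSucc, pullback.lift_fst_assoc, Nerve.δ_pr, Fin.succAbove_last]
      inv_hom_id := pullback.hom_ext
        (Groth.L10.Nerve.hom_ext p fun k => by
          simp only [a, Category.assoc, pullback.lift_fst_assoc, Category.id_comp]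
          rw [Nerve.δ_pr, Fin.succAbove_last, hb, Fin.lastCases_castSucc])
        (by rw [Category.assoc, pullback.lift_snd, hb, Fin.lastCases_last, Category.id_comp]) }
  exact IsPullback.of_iso_pullback ⟨by rw [Nerve.δ_bs, Nerve.pr_w]⟩ e (pullback.lift_fst _ _ _) (pullback.lift_snd _ _ _)

theorem isIso_pr_zero : IsIso (Nerve.pr p (0 : Fin 1)) :=
  ⟨WidePullback.lift p (fun _ => 𝟙 _) (fun _ => Category.id_comp _), Groth.L10.Nerve.hom_ext p fun i => by
    obtain rfl : i = 0 := Subsingleton.elim (α := Fin 1) i 0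
    rw [Category.assoc, WidePullback.lift_π, Category.id_comp, Category.comp_id], WidePullback.lift_π _ _ _ _ _⟩

end Square

theorem isPullback_left {P A B D : X.Etale} {f : P ⟶ A} {g : P ⟶ B} {h : A ⟶ D} {k : B ⟶ D}
    (H : IsPullback f g h k) : IsPullback f.left g.left h.left k.left :=
  H.map (Scheme.Etale.forget X ⋙ Over.forget X)

theorem affine_and_surjective {V U : X.Etale} [IsAffine V.left] [IsAffine U.left] (p : V ⟶ U) [Surjective p.left]
    (n : ℕ) : IsAffine (Nerve.N p n).left ∧ Surjective (Nerve.bs p n).left := by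
  induction n with
  | zero =>
    haveI := isIso_pr_zero p
    haveI : IsIso (Nerve.pr p (0 : Fin 1)).left :=
      inferInstanceAs (IsIso ((Scheme.Etale.forget X ⋙ Over.forget X).map (Nerve.pr p (0 : Fin 1))))
    refine ⟨IsAffine.of_isIso (Nerve.pr p (0 : Fin 1)).left, ?_⟩
    rw [show (Nerve.bs p 0).left = (Nerve.pr p (0 : Fin 1)).left ≫ p.left from
      congrArg (fun k : Nerve.N p 0 ⟶ U => k.left) (Nerve.pr_w p (0 : Fin 1)).symm]
    infer_instance
  | succ n ih =>
    obtain ⟨_, _⟩ := ih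
    have hP := isPullback_left (isPullback_last p n)
    haveI : IsAffine (pullback (Nerve.bs p n).left p.left) := inferInstance
    refine ⟨IsAffine.of_isIso hP.isoPullback.hom, ?_⟩
    rw [show (Nerve.bs p (n + 1)).left = (Nerve.δ p (Fin.last (n + 1))).left ≫ (Nerve.bs p n).left from
      congrArg (fun k : Nerve.N p (n + 1) ⟶ U => k.left) (Nerve.δ_bs p (Fin.last (n + 1))).symm]
    haveI : Surjective (Nerve.δ p (Fin.last (n + 1))).left := MorphismProperty.of_isPullback hP.flip ‹Surjective p.left›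
    infer_instance

theorem covering_of_surjective {V U : X.Etale} (p : V ⟶ U) [Surjective p.left] :
    Sieve.generate (Presieve.singleton p) ∈ X.smallEtaleTopology U :=
  (Groth.L27.EtSite.mem_topology_iff _).2 fun x => by
    obtain ⟨v, hv⟩ := p.left.surjective x
    exact ⟨V, p, v, Sieve.le_generate _ _ _ (Presieve.singleton_self p), hv⟩

theorem isSheaf_types (A : EtCoh.Ab X) :
    Presieve.IsSheaf X.smallEtaleTopology (A.obj ⋙ CategoryTheory.forget AddCommGrpCat.{u + 1}) :=
  (isSheaf_iff_isSheaf_of_type _ _).1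
    (GrothendieckTopology.HasSheafCompose.isSheaf (F := CategoryTheory.forget AddCommGrpCat.{u + 1}) A.obj A.property)

theorem eq_of_surjective (A : EtCoh.Ab X) {V U : X.Etale} (p : V ⟶ U) [Surjective p.left]
    {a b : A.obj.obj (op U)} (h : A.obj.map p.op a = A.obj.map p.op b) : a = b :=
  ((Presieve.isSeparatedFor_iff_generate).2 ((isSheaf_types A).isSeparated _ (covering_of_surjective p))).ext
    fun W g hg => by cases hg; exact h

theorem exists_descend (A : EtCoh.Ab X) {V U : X.Etale} (p : V ⟶ U) [Surjective p.left] (s : A.obj.obj (op V))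
    (h : ∀ (Z : X.Etale) (g₁ g₂ : Z ⟶ V), g₁ ≫ p = g₂ ≫ p → A.obj.map g₁.op s = A.obj.map g₂.op s) :
    ∃ t, A.obj.map p.op t = s := by
  have hs : (Presieve.ofArrows (fun _ : PUnit.{u + 1} => V) fun _ => p).IsSheafFor (A.obj ⋙ CategoryTheory.forget AddCommGrpCat.{u + 1}) := by
    rw [Presieve.ofArrows_pUnit, Presieve.isSheafFor_iff_generate]
    exact isSheaf_types A _ (covering_of_surjective p)
  obtain ⟨t, ht, -⟩ := (Presieve.isSheafFor_arrows_iff _ _).1 hs (fun _ => s) fun _ _ Z g g' e => h Z g g' e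
  exact ⟨t, ht PUnit.unit.{u + 1}⟩

theorem app_injective {S : ShortComplex (EtCoh.Ab X)} (hS : S.ShortExact) (Z : X.Etale) :
    Function.Injective (S.f.hom.app (op Z)) :=
  haveI := hS.mono_f
  (AddCommGrpCat.mono_iff_injective _).1
    (inferInstanceAs (Mono ((sheafToPresheaf _ _ ⋙ (evaluation _ _).obj (op Z)).map S.f)))

theorem app_exact {S : ShortComplex (EtCoh.Ab X)} (hS : S.ShortExact) (Z : X.Etale) (t : S.X₂.obj.obj (op Z))
    (ht : S.g.hom.app (op Z) t = 0) : ∃ a, S.f.hom.app (op Z) a = t := by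
  haveI := hS.mono_f
  let Φ := sheafToPresheaf X.smallEtaleTopology AddCommGrpCat.{u + 1} ⋙ (evaluation _ _).obj (op Z)
  haveI : Φ.PreservesZeroMorphisms := ⟨fun _ _ => rfl⟩
  exact (ShortComplex.ab_exact_iff _).1 (hS.exact.map_of_mono_of_preservesKernel Φ inferInstance inferInstance) t ht

/-- sections lift to an affine covering object -/
theorem exists_affine_lift {S : ShortComplex (EtCoh.Ab X)} (hS : S.ShortExact) {U : X.Etale} [IsAffine U.left]
    (x : S.X₃.obj.obj (op U)) :
    ∃ (V : X.Etale) (p : V ⟶ U) (_ : IsAffine V.left) (_ : Surjective p.left) (s : S.X₂.obj.obj (op V)),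
      S.g.hom.app (op V) s = S.X₃.obj.map p.op x := by
  haveI := hS.epi_g
  haveI : Sheaf.IsLocallySurjective S.g := (Sheaf.isLocallySurjective_iff_epi' AddCommGrpCat.{u + 1} _).mpr inferInstance
  have hloc : ∀ z : U.left, ∃ (W : X.Etale) (g : W ⟶ U) (w : W.left) (_ : IsAffine W.left),
      g.left w = z ∧ ∃ t, S.g.hom.app (op W) t = S.X₃.obj.map g.op x := fun z => by
    obtain ⟨W, g, w, ⟨t, ht⟩, hw⟩ := (Groth.L27.EtSite.mem_topology_iff _).1
      (Presheaf.imageSieve_mem X.smallEtaleTopology S.g.hom x) z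
    obtain ⟨O, hO, hwO, -⟩ := exists_isAffineOpen_mem_and_subset (U := (⊤ : W.left.Opens)) (x := w) trivial
    haveI : AlgebraicGeometry.Etale W.hom := W.prop
    let W' : X.Etale := MorphismProperty.Over.mk ⊤ (O.ι ≫ W.hom)
      (inferInstanceAs (AlgebraicGeometry.Etale (O.ι ≫ W.hom)))
    let i : W' ⟶ W := MorphismProperty.Over.homMk O.ι rfl
    refine ⟨W', i ≫ g, ⟨w, hwO⟩, hO, hw, S.X₂.obj.map i.op t, ?_⟩
    rw [NatTrans.naturality_apply S.g.hom i.op t, ht, op_comp, Functor.map_comp_apply]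
  choose W g w hWaff hw t ht using hloc
  obtain ⟨T, hT⟩ := isCompact_univ.elim_finite_subcover (fun z : U.left => Set.range (g z).left)
    (fun z => by
      haveI : AlgebraicGeometry.Etale (W z).hom := (W z).prop
      haveI : AlgebraicGeometry.Etale U.hom := U.prop
      haveI : AlgebraicGeometry.Etale ((g z).left ≫ U.hom) := by rw [MorphismProperty.Over.w (g z)]; exact (W z).prop
      haveI : AlgebraicGeometry.Etale (g z).left := AlgebraicGeometry.Etale.of_comp (g z).left U.hom
      exact (g z).left.isOpenMap.isOpen_range)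
    (fun z _ => Set.mem_iUnion.2 ⟨z, w z, hw z⟩)
  let E : T → Scheme.{u} := fun z => (W z.1).left
  let φ : ∐ E ⟶ U.left := Sigma.desc fun z => (g z.1).left
  have hetale : AlgebraicGeometry.Etale (φ ≫ U.hom) := by
    have e : φ ≫ U.hom = Sigma.desc fun z : T => (W z.1).hom := Sigma.hom_ext _ _ fun z => by
      rw [Sigma.ι_desc, Sigma.ι_desc_assoc]
      exact MorphismProperty.Over.w (g z.1)
    rw [e]
    exact IsZariskiLocalAtSource.sigmaDesc fun z => (W z.1).prop
  haveI := hetale
  let V : X.Etale := MorphismProperty.Over.mk ⊤ (φ ≫ U.hom) hetale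
  let p : V ⟶ U := MorphismProperty.Over.homMk φ rfl
  let ι : ∀ z : T, W z.1 ⟶ V := fun z => MorphismProperty.Over.homMk (Sigma.ι E z) (by
    show Sigma.ι E z ≫ φ ≫ U.hom = (W z.1).hom
    rw [Sigma.ι_desc_assoc]
    exact MorphismProperty.Over.w (g z.1))
  have hι : ∀ z : T, ι z ≫ p = g z.1 := fun z => MorphismProperty.Over.Hom.ext (Sigma.ι_desc _ _)
  haveI : ∀ z : T, IsAffine (E z) := fun z => hWaff z.1
  have haff : IsAffine V.left := inferInstanceAs (IsAffine (∐ E))
  have hsurj : Surjective p.left := ⟨fun z => by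
    obtain ⟨z', hz', y, hy⟩ := Set.mem_iUnion₂.1 (hT (Set.mem_univ z))
    refine ⟨Sigma.ι E ⟨z', hz'⟩ y, ?_⟩
    show (Sigma.ι E ⟨z', hz'⟩ ≫ φ) y = z
    rw [Sigma.ι_desc]
    exact hy⟩
  have hcov : Sieve.generate (Presieve.ofArrows (fun z : T => W z.1) ι) ∈ X.smallEtaleTopology V :=
    (Groth.L27.EtSite.mem_topology_iff _).2 fun v => by
      obtain ⟨z, y, hy⟩ := (sigmaOpenCover E).exists_eq v
      exact ⟨W z.1, ι z, y, Sieve.le_generate _ _ _ (Presieve.ofArrows.mk z), hy⟩
  have hs : (Presieve.ofArrows (fun z : T => W z.1) ι).IsSheafFor (S.X₂.obj ⋙ CategoryTheory.forget AddCommGrpCat.{u + 1}) :=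
    (Presieve.isSheafFor_iff_generate _).2 (isSheaf_types S.X₂ _ hcov)
  obtain ⟨s, hsz, -⟩ := (Presieve.isSheafFor_arrows_iff _ _).1 hs (fun z => t z.1) (by
    intro a b Z ga gb e
    rcases eq_or_ne a b with rfl | hab
    · have : ga = gb := MorphismProperty.Over.Hom.ext
        ((cancel_mono (Sigma.ι E a)).1 (congrArg (fun k : Z ⟶ V => k.left) e))
      rw [this]
    · haveI : IsEmpty Z.left := isEmpty_of_commSq_sigmaι_of_ne ⟨congrArg (fun k : Z ⟶ V => k.left) e⟩ hab
      exact ((isSheaf_types S.X₂).isSeparated ⊥ ((Groth.L27.EtSite.mem_topology_iff _).2 fun z => isEmptyElim z)).ext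
        fun W' k hk => hk.elim)
  refine ⟨V, p, haff, hsurj, s, ?_⟩
  refine (((Presieve.isSheafFor_iff_generate _).2 (isSheaf_types S.X₃ _ hcov)).isSeparatedFor).ext fun Z k hk => ?_
  cases hk with
  | mk z =>
    show S.X₃.obj.map (ι z).op (S.g.hom.app (op V) s) = S.X₃.obj.map (ι z).op (S.X₃.obj.map p.op x)
    rw [← NatTrans.naturality_apply S.g.hom (ι z).op s, ← Functor.map_comp_apply, ← op_comp, hι]
    exact (congrArg _ (hsz z)).trans (ht z.1)

/-- Čech acyclic for all surjections of affine objects -/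
def Acyc (F : EtCoh.Ab X) : Prop :=
  ∀ (V U : X.Etale) [IsAffine V.left] [IsAffine U.left] (p : V ⟶ U) [Surjective p.left], Acyclic p F.obj

theorem acyc_of_injective (F : EtCoh.Ab X) [Injective F] : Acyc F := by
  intro V U _ _ p _
  haveI : Injective F.obj := Injective.injective_of_adjoint (sheafificationAdjunction _ AddCommGrpCat.{u + 1}) F
  exact Groth.L28.ProEt.Cech.acyclic_of_injective.{u + 1} p F.obj

theorem surjective_sections {S : ShortComplex (EtCoh.Ab X)} (hS : S.ShortExact) (h₁ : Acyc S.X₁) {U : X.Etale}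
    [IsAffine U.left] : Function.Surjective (S.g.hom.app (op U)) := by
  intro x
  obtain ⟨V, p, haff, hsurj, s, hs⟩ := exists_affine_lift hS x
  haveI := haff
  haveI := hsurj
  haveI := isIso_pr_zero p
  obtain ⟨_, _⟩ := affine_and_surjective p 0
  let s₀ := S.X₂.obj.map (Nerve.pr p (0 : Fin 1)).op s
  have hg0 : S.g.hom.app _ s₀ = S.X₃.obj.map (Nerve.bs p 0).op x := by
    rw [NatTrans.naturality_apply S.g.hom, hs, ← Functor.map_comp_apply, ← op_comp, Nerve.pr_w]
  have hb : ∀ j : Fin 2, res S.X₃.obj (Nerve.δ p j) (res S.X₃.obj (Nerve.bs p 0) x) = res S.X₃.obj (Nerve.bs p 1) x :=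
    fun j => by rw [res_res, Nerve.δ_bs]
  obtain ⟨a, ha⟩ := app_exact hS (Nerve.N p 1) (d p S.X₂.obj 0 s₀) (by
    refine (d_natural p S.g.hom 0 s₀).trans ?_
    rw [hg0, d_apply, Fin.sum_univ_two]
    show ((-1 : ℤ) ^ 0) • res S.X₃.obj (Nerve.δ p 0) (res S.X₃.obj (Nerve.bs p 0) x) +
      ((-1 : ℤ) ^ 1) • res S.X₃.obj (Nerve.δ p 1) (res S.X₃.obj (Nerve.bs p 0) x) = 0
    rw [hb, hb]
    simp)
  obtain ⟨y, hy⟩ := h₁ V U p 0 a (app_injective hS _ (by
    rw [map_zero]
    exact (d_natural p S.f.hom 1 a).trans ((congrArg (d p S.X₂.obj 1) ha).trans (d_d p S.X₂.obj 0 s₀))))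
  let s' := s₀ - S.f.hom.app _ y
  have hd : d p S.X₂.obj 0 s' = 0 := by
    rw [map_sub, sub_eq_zero, ← d_natural p S.f.hom, hy, ha]
  obtain ⟨t, ht⟩ := exists_descend S.X₂ (Nerve.bs p 0) s' fun Z g₁ g₂ hg => by
    let l : Z ⟶ Nerve.N p 1 := WidePullback.lift (g₁ ≫ Nerve.bs p 0)
      (fun k => if k = 0 then g₂ ≫ Nerve.pr p 0 else g₁ ≫ Nerve.pr p 0) fun k => by
        dsimp only
        split_ifs
        · rw [Category.assoc, show Nerve.pr p (0 : Fin 1) ≫ (Arrow.mk p).hom = Nerve.bs p 0 from Nerve.pr_w p 0]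
          exact hg.symm
        · rw [Category.assoc, show Nerve.pr p (0 : Fin 1) ≫ (Arrow.mk p).hom = Nerve.bs p 0 from Nerve.pr_w p 0]
    have hl : ∀ k, l ≫ Nerve.pr p k = if k = 0 then g₂ ≫ Nerve.pr p 0 else g₁ ≫ Nerve.pr p 0 :=
      fun k => WidePullback.lift_π _ _ _ _ _
    have e₁ : l ≫ Nerve.δ p 0 = g₁ := Groth.L10.Nerve.hom_ext p fun i => by
      obtain rfl : i = 0 := Subsingleton.elim (α := Fin 1) i 0
      rw [Category.assoc, Nerve.δ_pr, hl, if_neg (by decide)]
    have e₂ : l ≫ Nerve.δ p 1 = g₂ := Groth.L10.Nerve.hom_ext p fun i => by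
      obtain rfl : i = 0 := Subsingleton.elim (α := Fin 1) i 0
      rw [Category.assoc, Nerve.δ_pr, hl, if_pos (by decide)]
    have h : res S.X₂.obj l (d p S.X₂.obj 0 s') = 0 := (congrArg (res S.X₂.obj l) hd).trans (map_zero _)
    rw [d_apply, Fin.sum_univ_two] at h
    replace h := (map_add (S.X₂.obj.map l.op).hom _ _).symm.trans h
    rw [map_zsmul, map_zsmul] at h
    change ((-1 : ℤ) ^ 0) • res S.X₂.obj l (res S.X₂.obj (Nerve.δ p 0) s') +
      ((-1 : ℤ) ^ 1) • res S.X₂.obj l (res S.X₂.obj (Nerve.δ p 1) s') = 0 at h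
    rw [res_res, res_res, e₁, e₂] at h
    simp only [pow_zero, one_smul, pow_one, neg_smul, add_neg_eq_zero] at h
    exact h
  refine ⟨t, eq_of_surjective S.X₃ (Nerve.bs p 0) ?_⟩
  rw [← NatTrans.naturality_apply S.g.hom, ht, map_sub, hg0]
  rw [show S.g.hom.app (op (Nerve.N p 0)) (S.f.hom.app (op (Nerve.N p 0)) y) = 0 from
    ConcreteCategory.congr_hom (congrArg (fun k => k.hom.app (op (Nerve.N p 0))) S.zero) y, sub_zero]

theorem acyc_X₃ {S : ShortComplex (EtCoh.Ab X)} (hS : S.ShortExact) (h₁ : Acyc S.X₁) (h₂ : Acyc S.X₂) : Acyc S.X₃ := by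
  intro V U _ _ p _ n x hx
  haveI := (affine_and_surjective p (n + 1)).1
  obtain ⟨s, rfl⟩ := surjective_sections hS h₁ (U := Nerve.N p (n + 1)) x
  obtain ⟨a, ha⟩ := app_exact hS _ (d p S.X₂.obj (n + 1) s) ((d_natural p S.g.hom (n + 1) s).trans hx)
  obtain ⟨y, hy⟩ := h₁ V U p (n + 1) a (app_injective hS _ (by
    rw [map_zero]
    exact (d_natural p S.f.hom (n + 2) a).trans
      ((congrArg (d p S.X₂.obj (n + 2)) ha).trans (d_d p S.X₂.obj (n + 1) s))))
  obtain ⟨b, hb⟩ := h₂ V U p n (s - S.f.hom.app _ y) (by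
    rw [map_sub, sub_eq_zero, ← d_natural p S.f.hom, hy, ha])
  refine ⟨S.g.hom.app _ b, (d_natural p S.g.hom n b).symm.trans ((congrArg _ hb).trans ?_)⟩
  rw [map_sub, show S.g.hom.app (op (Nerve.N p (n + 1))) (S.f.hom.app (op (Nerve.N p (n + 1))) y) = 0 from
    ConcreteCategory.congr_hom (congrArg (fun k => k.hom.app (op (Nerve.N p (n + 1)))) S.zero) y, sub_zero]

/-- Čech acyclic sheaves have no higher cohomology on affine schemes -/
theorem subsingleton_H [IsAffine X] (n : ℕ) : ∀ (F : EtCoh.Ab X), Acyc F → Subsingleton (EtCoh.H X F (n + 1)) := by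
  induction n with
  | zero =>
    intro F hF
    obtain ⟨T, hT, hI, rfl⟩ : ∃ T : ShortComplex (EtCoh.Ab X), T.ShortExact ∧ Injective T.X₂ ∧ T.X₁ = F :=
      ⟨ShortComplex.mk (Injective.ι F) (cokernel.π _) (cokernel.condition _),
        { exact := ShortComplex.exact_of_g_is_cokernel _ (cokernelIsCokernel (Injective.ι F))
          mono_f := inferInstanceAs (Mono (Injective.ι F))
          epi_g := inferInstanceAs (Epi (cokernel.π (Injective.ι F))) },
        inferInstanceAs (Injective (Injective.under F)), rfl⟩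
    refine subsingleton_of_forall_eq 0 fun x => ?_
    obtain ⟨y, rfl⟩ := Ext.covariant_sequence_exact₁ _ hT x (Ext.eq_zero_of_injective _) (zero_add 1)
    haveI : IsAffine (EtCoh.top X).left := inferInstanceAs (IsAffine X)
    obtain ⟨t, ht⟩ := surjective_sections hT hF (U := EtCoh.top X) (Sheaf.H.equiv₀ T.X₃ (EtCore.topIsTerminal X) y)
    have e : y = Sheaf.H.map T.g 0 ((Sheaf.H.equiv₀ T.X₂ (EtCore.topIsTerminal X)).symm t) := by
      rw [Sheaf.H.equiv₀_symm_naturality, ht, AddEquiv.symm_apply_apply]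
    rw [e, Sheaf.H.map_apply]
    simp
  | succ n ih =>
    intro F hF
    obtain ⟨T, hT, hI, rfl⟩ : ∃ T : ShortComplex (EtCoh.Ab X), T.ShortExact ∧ Injective T.X₂ ∧ T.X₁ = F :=
      ⟨ShortComplex.mk (Injective.ι F) (cokernel.π _) (cokernel.condition _),
        { exact := ShortComplex.exact_of_g_is_cokernel _ (cokernelIsCokernel (Injective.ι F))
          mono_f := inferInstanceAs (Mono (Injective.ι F))
          epi_g := inferInstanceAs (Epi (cokernel.π (Injective.ι F))) },
        inferInstanceAs (Injective (Injective.under F)), rfl⟩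
    refine subsingleton_of_forall_eq 0 fun x => ?_
    obtain ⟨y, rfl⟩ := Ext.covariant_sequence_exact₁ _ hT x (Ext.eq_zero_of_injective _) rfl
    haveI := ih T.X₃ (acyc_X₃ hT hF (acyc_of_injective T.X₂))
    rw [Subsingleton.elim (α := EtCoh.H X T.X₃ (n + 1)) y 0, Ext.zero_comp]

end Groth.L28.EtCartan
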