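import Groth.Agent.L28.EtCartan.Zar
import Groth.Agent.L28.UnivLift.Basic
import Groth.Prelude.Def_Coh

/-!
Étale and Zariski cohomology of the additive group.
-/

set_option autoImplicit false
set_option linter.style.haveILetI false
set_option linter.unusedSectionVars false
set_option backward.isDefEq.respectTransparency.types false

universe u

open CategoryTheory CategoryTheory.Limits AlgebraicGeometry Opposite TopologicalSpace

namespace Groth.L28.EtCartan

variable (X : Scheme.{u})

/-- functions on an open, seen from the étale site -/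
noncomputable def gaZarIso [EtZar.ZarCont X] :
    (EtZar.resZar X).obj (EtCoh.Ga X) ≅
      (Groth.L28.UnivLift.lift X).obj (Coh.toAb (Coh.structureModule X)) := by
  refine (fullyFaithfulSheafToPresheaf _ _).preimageIso (NatIso.ofComponents (fun U => ?_) ?_)
  · exact AddCommGrpCat.uliftFunctor.{u + 1}.mapIso
      ((CategoryTheory.forget₂ RingCat AddCommGrpCat).mapIso ((forget₂ CommRingCat RingCat).mapIso (Scheme.Opens.topIso (X := X) U.unop)))
  · intro U V i
    ext ⟨z⟩
    refine ULift.ext _ _ ?_
    show (Scheme.Opens.topIso (X := X) V.unop).hom ((X.homOfLE i.unop.le).appTop z) = X.presheaf.map i ((Scheme.Opens.topIso (X := X) U.unop).hom z)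
    rw [Scheme.homOfLE_appTop, Scheme.Opens.topIso_hom, Scheme.Opens.topIso_hom]
    refine Eq.trans ?_ (Functor.map_comp_apply X.presheaf _ _ z)
    exact (Functor.map_comp_apply X.presheaf _ _ z).symm

theorem zarCont : EtZar.ZarCont X := by
  refine Functor.isContinuous_of_coverPreserving (compatiblePreservingOfFlat X.smallEtaleTopology (EtZar.zarToEt X)) ⟨fun {U S} hS => ?_⟩
  refine (Groth.L27.EtSite.mem_topology_iff _).2 fun x => ?_
  let U' : X.Opens := U
  let x' : U'.toScheme := x
  obtain ⟨V, i, hi, hxV⟩ := hS (U'.ι x') x'.2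
  refine ⟨(EtZar.zarToEt X).obj V, (EtZar.zarToEt X).map i, ⟨U'.ι x', hxV⟩, ⟨V, i, 𝟙 _, hi, (Category.id_comp _).symm⟩, ?_⟩
  refine U'.ι.isOpenEmbedding.injective ?_
  exact (Scheme.Hom.comp_apply _ _ _).symm.trans (congr($(X.homOfLE_ι i.le) ⟨U'.ι x', hxV⟩))

/-- étale cohomology of the additive group is coherent cohomology, compatibly with endomorphisms -/
theorem exists_H_Ga [EtZar.ZarCont X] (p : ℕ) :
    ∃ e : Coh.HH X (Coh.structureModule X) p ≃+ EtCoh.H X (EtCoh.Ga X) p,
      ∀ (α : EtCoh.Ga X ⟶ EtCoh.Ga X) (β : Coh.toAb (Coh.structureModule X) ⟶ Coh.toAb (Coh.structureModule X)),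
        (EtZar.resZar X).map α ≫ (gaZarIso X).hom = (gaZarIso X).hom ≫ (Groth.L28.UnivLift.lift X).map β →
        ∀ x, e (Sheaf.H.map β p x) = (EtCoh.HF X p).map α (e x) := by
  haveI : (EtZar.resZar X).Additive :=
    haveI := (zarAdj X).rightAdjoint_preservesLimits
    Functor.additive_of_preserves_binary_products _
  obtain ⟨e, he⟩ := exists_H_resZar X (EtCoh.Ga X) (isZero_rightDerived_of_acyc X _ acyc_Ga) p
  obtain ⟨l, hl⟩ := Groth.L28.UnivLift.exists_H_lift X (Coh.toAb (Coh.structureModule X)) p
  let i := gaZarIso X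
  let m : EtZar.H ((EtZar.resZar X).obj (EtCoh.Ga X)) p ≃+
      EtZar.H ((Groth.L28.UnivLift.lift X).obj (Coh.toAb (Coh.structureModule X))) p :=
    { toFun := fun x => Sheaf.H.map i.hom p x
      invFun := fun x => Sheaf.H.map i.inv p x
      left_inv := fun x => by simp [Sheaf.H.map_apply]
      right_inv := fun x => by simp [Sheaf.H.map_apply]
      map_add' := fun x y => map_add _ x y }
  refine ⟨l.trans (m.symm.trans e), fun α β h x => ?_⟩
  show e (m.symm (l (Sheaf.H.map β p x))) = _
  rw [hl]
  refine Eq.trans (congrArg e ?_) (he α (m.symm (l x)))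
  refine m.injective ?_
  rw [m.apply_symm_apply]
  show _ = Sheaf.H.map i.hom p (Sheaf.H.map ((EtZar.resZar X).map α) p (Sheaf.H.map i.inv p (l x)))
  rw [← Sheaf.H.map_comp_apply, ← Sheaf.H.map_comp_apply, h, i.inv_hom_id_assoc]

/-- étale cohomology of the additive group is coherent cohomology -/
theorem nonempty_H_Ga (p : ℕ) :
    Nonempty (EtCoh.H X (EtCoh.Ga X) p ≃+ Coh.HH X (Coh.structureModule X) p) :=
  haveI := zarCont X
  let ⟨e, _⟩ := exists_H_Ga X p
  ⟨e.symm⟩

end Groth.L28.EtCartan
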